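import Cfsg.Agent.TwoGenNineE.PartE
import Cfsg.Agent.NineCore.Final

/-!
# From the action of `N₀` on nine points to the contradiction
-/

set_option autoImplicit false
set_option linter.unusedSectionVars false

namespace Cfsg.Agent.TwoGenNineE.Glue

open Subgroup Cfsg Equiv
open Cfsg.Agent.NineCore.Proj Cfsg.Agent.NineCore.NoTarget
open Cfsg.Agent.SporRec.TwoAn Cfsg.Agent.SporRec.TwoAnEleven

universe u v

theorem cycleType_double {α : Type*} [Fintype α] [DecidableEq α] {a b c d : α} (hab : a ≠ b) (hac : a ≠ c)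
    (had : a ≠ d) (hbc : b ≠ c) (hbd : b ≠ d) (hcd : c ≠ d) :
    (swap a b * swap c d).cycleType = {2, 2} := by
  have hdis : (swap a b).Disjoint (swap c d) := by
    rw [Perm.disjoint_iff_disjoint_support, Perm.support_swap hab, Perm.support_swap hcd]
    simp only [Finset.disjoint_insert_left, Finset.mem_insert, Finset.mem_singleton, not_or,
      Finset.disjoint_singleton_left]
    exact ⟨⟨hac, had⟩, hbc, hbd⟩
  rw [hdis.cycleType_mul, (Perm.isCycle_swap hab).cycleType, (Perm.isCycle_swap hcd).cycleType,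
    Perm.support_swap hab, Perm.support_swap hcd, Finset.card_pair hab, Finset.card_pair hcd]
  rfl

/-- The cover defined by a permutation representation. -/
theorem exists_cover {α : Type*} [Fintype α] [DecidableEq α] {N : Type u} [Group N] [Finite N] (ρ : N →* Perm α)
    (hρ : ρ.range = alternatingGroup α) {t : N} (ht2 : t * t = 1) (ht1 : t ≠ 1) (htc : ∀ y, y * t = t * y)
    (O : Subgroup N) [hOn : O.Normal] (hO : Odd (Nat.card O)) (hker : ∀ n, ρ n = 1 ↔ n ∈ O ∨ n * t ∈ O)
    {x : N} (hx : x * x = t) {a b c d : α} (hab : a ≠ b) (hac : a ≠ c)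
    (had : a ≠ d) (hbc : b ≠ c) (hbd : b ≠ d) (hcd : c ≠ d) (hρx : ρ x = swap a b * swap c d) :
    ∃ K : Cover α (N ⧸ O), K.z = QuotientGroup.mk' O t := by
  have hOker : O ≤ ρ.ker := fun n hn => (hker n).2 (Or.inl hn)
  let π : N ⧸ O →* Perm α := QuotientGroup.lift O ρ hOker
  have hπ : ∀ n, π (QuotientGroup.mk' O n) = ρ n := fun n => rfl
  have hzne : QuotientGroup.mk' O t ≠ 1 := by
    intro h
    have h1 : t ∈ O := (QuotientGroup.eq_one_iff t).1 h
    exact ht1 (eq_one_of_odd ht2 hO h1)
  have hzc : ∀ g : N ⧸ O, g * QuotientGroup.mk' O t = QuotientGroup.mk' O t * g := by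
    intro g
    obtain ⟨g, rfl⟩ := QuotientGroup.mk'_surjective O g
    rw [← map_mul, htc, map_mul]
  have hzz : QuotientGroup.mk' O t * QuotientGroup.mk' O t = 1 := by rw [← map_mul, ht2, map_one]
  have hkerπ : ∀ g : N ⧸ O, π g = 1 ↔ g = 1 ∨ g = QuotientGroup.mk' O t := by
    intro g
    obtain ⟨g, rfl⟩ := QuotientGroup.mk'_surjective O g
    rw [hπ, hker]
    constructor
    · rintro (h | h)
      · left; exact (QuotientGroup.eq_one_iff g).2 h
      · right
        have h1 : QuotientGroup.mk' O (g * t) = 1 := (QuotientGroup.eq_one_iff _).2 h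
        rw [map_mul] at h1
        rw [mul_eq_one_iff_eq_inv.1 h1]
        exact inv_eq_of_mul_eq_one_left hzz
    · rintro (h | h)
      · left; exact (QuotientGroup.eq_one_iff g).1 h
      · right
        refine (QuotientGroup.eq_one_iff _).1 ?_
        change QuotientGroup.mk' O (g * t) = 1
        rw [map_mul, h, hzz]
  have hrange : π.range = alternatingGroup α := by
    rw [← hρ]
    ext σ
    constructor
    · rintro ⟨g, rfl⟩
      obtain ⟨g, rfl⟩ := QuotientGroup.mk'_surjective O g
      exact ⟨g, rfl⟩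
    · rintro ⟨g, rfl⟩
      exact ⟨QuotientGroup.mk' O g, rfl⟩
  refine ⟨⟨π, hrange, QuotientGroup.mk' O t, hzne, hkerπ, ?_⟩, rfl⟩
  intro a' b' c' d' hab' hac' had' hbc' hbd' hcd' g hg
  have hconj : IsConj (swap a b * swap c d) (swap a' b' * swap c' d') := by
    rw [Perm.isConj_iff_cycleType_eq, cycleType_double hab hac had hbc hbd hcd,
      cycleType_double hab' hac' had' hbc' hbd' hcd']
  have hsq : swap a b * swap c d * (swap a b * swap c d) = 1 := by
    rw [← hρx, ← map_mul, hx, hker]
    right; rw [ht2]; exact O.one_mem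
  have hmove : (swap a b * swap c d) a ≠ a := by
    rw [Perm.mul_apply, swap_apply_of_ne_of_ne hac had, swap_apply_left]
    exact hab.symm
  obtain ⟨k, hk, hkk⟩ := Cfsg.Agent.NineCore.TwoNine.exists_even_conj' hconj hsq hmove
  rw [← hrange] at hk
  obtain ⟨m, rfl⟩ := hk
  have h1 : π (m * QuotientGroup.mk' O x * m⁻¹) = π g := by
    rw [map_mul, map_mul, map_inv, hπ, hρx, hkk, hg]
  have h2 : π (g⁻¹ * (m * QuotientGroup.mk' O x * m⁻¹)) = 1 := by
    rw [map_mul, map_inv, h1, inv_mul_cancel]
  have h3 : m * QuotientGroup.mk' O x * m⁻¹ * (m * QuotientGroup.mk' O x * m⁻¹) = QuotientGroup.mk' O t := by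
    calc m * QuotientGroup.mk' O x * m⁻¹ * (m * QuotientGroup.mk' O x * m⁻¹) =
        m * (QuotientGroup.mk' O x * QuotientGroup.mk' O x) * m⁻¹ := by group
      _ = QuotientGroup.mk' O t := by rw [← map_mul, hx, hzc]; group
  rcases (hkerπ _).1 h2 with h | h
  · rw [inv_mul_eq_one] at h
    rw [h, h3]
  · rw [inv_mul_eq_iff_eq_mul] at h
    rw [h] at h3
    rw [← h3]
    calc g * g = g * g * (QuotientGroup.mk' O t * QuotientGroup.mk' O t) := by rw [hzz, mul_one]
      _ = g * (g * QuotientGroup.mk' O t) * QuotientGroup.mk' O t := by group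
      _ = g * (QuotientGroup.mk' O t * g) * QuotientGroup.mk' O t := by rw [hzc g]
      _ = g * QuotientGroup.mk' O t * (g * QuotientGroup.mk' O t) := by group

/-- Part (E) + T9 for a subgroup `N₀` of the centraliser of the involution `z`, in terms of covers. -/
theorem false_of_cover (ft : FTStatement.{u}) (sf : SFStatement.{u}) (base : Cfsg.Agent.NineCore.Final.BaseNine.{u})
    {G : Type u} [Group G] [Finite G] [IsSimpleGroup G] {z : G} (hz : orderOf z = 2)
    {N₀ : Subgroup (centralizer ({z} : Set G))} {X : Type v} [Group X] (K : Cover (Fin 9) X) (f : N₀ →* X)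
    (hf : Function.Surjective f) (hker : Odd (Nat.card f.ker)) (hzN : (⟨z, mem_self z⟩ : centralizer ({z} : Set G)) ∈ N₀)
    (hfz : f ⟨⟨z, mem_self z⟩, hzN⟩ = K.z) (hodd : Odd N₀.index) {x : centralizer ({z} : Set G)}
    (hxN : x ∈ N₀) (hxt : x * x = ⟨z, mem_self z⟩)
    (hx : centralizer ({x} : Set (centralizer ({z} : Set G))) ≤ N₀) : False := by
  have hfin : Finite X := Finite.of_surjective _ hf
  obtain ⟨hz2, hz1⟩ := orderOf_two_iff.1 hz
  have htop : N₀ = ⊤ := Cfsg.Agent.TwoGenNineE.PartE.eq_top_of_cover (t := ⟨z, mem_self z⟩) (Fintype.card_fin 9) K f hf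
    hker hzN hfz (Subtype.ext hz2) (fun y => Subtype.ext (mem_centralizer_singleton_iff.1 y.2)) hodd hxN hxt hx
  have hiso : IsIsolatedInvolution z := by
    let e : centralizer ({z} : Set G) →* N₀ :=
      { toFun := fun y => ⟨y, by rw [htop]; exact mem_top _⟩
        map_one' := rfl
        map_mul' := fun _ _ => rfl }
    have he : Function.Surjective e := fun y => ⟨y, rfl⟩
    refine Cfsg.Agent.NineCore.Final.isolated_of_quo ft sf base K hz ⟨f.comp e, hf.comp he, ?_, hfz⟩
    have hcard : Nat.card (f.comp e).ker = Nat.card f.ker := by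
      refine Nat.card_congr ⟨fun y => ⟨e y, y.2⟩, fun y => ⟨((y : N₀) : centralizer ({z} : Set G)), y.2⟩, ?_, ?_⟩
      · intro y; rfl
      · intro y; rfl
    rw [hcard]; exact hker
  obtain ⟨N, hN, hNodd, hc⟩ := exists_zstar hiso
  have hNbot : N = ⊥ := by
    rcases hN.eq_bot_or_eq_top with h | h
    · exact h
    · exfalso
      have h1 : 2 ∣ Nat.card G := by rw [← hz]; exact orderOf_dvd_natCard z
      rw [h, Subgroup.card_top] at hNodd
      exact not_two_dvd hNodd h1
  have hzc : ∀ g : G, g ∈ centralizer ({z} : Set G) := by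
    intro g
    have h1 := hc g
    rw [hNbot, Subgroup.mem_bot, mul_inv_eq_one, mul_inv_eq_iff_eq_mul] at h1
    exact mem_centralizer_singleton_iff.2 h1.symm
  have hzcen : z ∈ center G := mem_center_iff.2 fun g => mem_centralizer_singleton_iff.1 (hzc g)
  have hct : center G = ⊤ := by
    rcases (inferInstance : (center G).Normal).eq_bot_or_eq_top with h2 | h2
    · rw [h2, mem_bot] at hzcen
      exact absurd hzcen hz1
    · exact h2
  -- then `x` is central, and so is its image
  have hcomm : ∀ p q : X, p * q = q * p := by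
    intro p q
    obtain ⟨p, rfl⟩ := hf p
    obtain ⟨q, rfl⟩ := hf q
    rw [← map_mul, ← map_mul]
    congr 1
    apply Subtype.ext
    apply Subtype.ext
    have : (((p : N₀) : centralizer ({z} : Set G)) : G) ∈ center G := by rw [hct]; exact mem_top _
    exact (mem_center_iff.1 this _).symm
  have hcz := K.z_mem_commutator (by rw [Fintype.card_fin]; omega)
  rw [(commutator_eq_bot_iff_center_eq_top X).2 (eq_top_iff.2 fun a _ => mem_center_iff.2 fun b => hcomm b a),
    Subgroup.mem_bot] at hcz
  exact K.z_ne hcz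

end Cfsg.Agent.TwoGenNineE.Glue
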