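import Cfsg.Agent.TwoGenNineE.Setup

/-!
# The centraliser of an involution of `N₀` different from `t` is contained in `N₀`
-/

set_option autoImplicit false
set_option linter.unusedSectionVars false

namespace Cfsg.Agent.TwoGenNineE.CentStep

open Subgroup Cfsg
open Cfsg.Agent.NineCore.Proj
open Cfsg.Agent.TwoGenNineE.Setup Cfsg.Agent.TwoGenNineE.Facts Cfsg.Agent.TwoGenNineE.Wreath
open Cfsg.Agent.TwoGenNineE.Lemmas

universe u v

/-- The four-group as a subgroup of the centraliser of `i`. -/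
def four {Y : Type u} [Group Y] {t i : Y} (ht : t * t = 1) (hi : i * i = 1) (hc : i * t = t * i) : Subgroup Y where
  carrier := {g | ∃ x y, (x = 1 ∨ x = i) ∧ (y = 1 ∨ y = t) ∧ g = x * y}
  one_mem' := ⟨1, 1, Or.inl rfl, Or.inl rfl, (one_mul 1).symm⟩
  mul_mem' := by
    rintro _ _ ⟨x, y, hx, hy, rfl⟩ ⟨x', y', hx', hy', rfl⟩
    refine ⟨x * x', y * y', ?_, ?_, ?_⟩
    · rcases hx with rfl | rfl <;> rcases hx' with rfl | rfl <;> simp [hi]
    · rcases hy with rfl | rfl <;> rcases hy' with rfl | rfl <;> simp [ht]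
    · have h : y * x' = x' * y := by
        rcases hy with rfl | rfl <;> rcases hx' with rfl | rfl <;> simp [hc]
      calc x * y * (x' * y') = x * (y * x') * y' := by group
        _ = x * x' * (y * y') := by rw [h]; group
  inv_mem' := by
    rintro _ ⟨x, y, hx, hy, rfl⟩
    have h1 : x⁻¹ = x := by
      rcases hx with rfl | rfl
      · exact inv_one
      · exact inv_eq_of_mul_eq_one_left hi
    have h2 : y⁻¹ = y := by
      rcases hy with rfl | rfl
      · exact inv_one
      · exact inv_eq_of_mul_eq_one_left ht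
    have h : y * x = x * y := by
      rcases hx with rfl | rfl <;> rcases hy with rfl | rfl <;> simp [hc]
    refine ⟨x, y, hx, hy, ?_⟩
    rw [mul_inv_rev, h1, h2, h]

theorem mem_four {Y : Type u} [Group Y] {t i : Y} {ht : t * t = 1} {hi : i * i = 1} {hc : i * t = t * i} {g : Y} :
    g ∈ four ht hi hc ↔ InV t i g := by
  constructor
  · rintro ⟨x, y, hx, hy, rfl⟩
    rcases hx with rfl | rfl <;> rcases hy with rfl | rfl
    · left; exact one_mul 1
    · right; left; exact one_mul _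
    · right; right; left; exact mul_one _
    · right; right; right; rfl
  · rintro (h | h | h | h)
    · exact ⟨1, 1, Or.inl rfl, Or.inl rfl, by rw [h, one_mul]⟩
    · exact ⟨1, t, Or.inl rfl, Or.inr rfl, by rw [h, one_mul]⟩
    · exact ⟨i, 1, Or.inr rfl, Or.inl rfl, by rw [h, mul_one]⟩
    · exact ⟨i, t, Or.inr rfl, Or.inr rfl, h⟩

section

variable {Y : Type u} [Group Y] [Finite Y] {C : Type v} [Group C] {N₀ : Subgroup Y} {t : Y} {z : C}
  (D : Data N₀ t z)

theorem φ_inV {i w : Y} (hiN : i ∈ N₀) (h : InV t i w) : InV z (D.φ i) (D.φ w) := by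
  rcases h with h | h | h | h
  · left; rw [h, D.φ_one]
  · right; left; rw [h, D.φ_t]
  · right; right; left; rw [h]
  · right; right; right; rw [h, D.φ_mul hiN D.tmem, D.φ_t]

/-- Detecting the four-group by the image, for elements of a `2`-group containing `i` and `t`. -/
theorem inV_of_φ {P : Subgroup Y} (hP : IsPGroup 2 P) (hPN : P ≤ N₀) (htP : t ∈ P) {i w : Y} (hiP : i ∈ P)
    (hwP : w ∈ P) (h : InV z (D.φ i) (D.φ w)) : InV t i w := by
  have key : ∀ v ∈ P, D.φ w = D.φ v → w = v := by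
    intro v hv hwv
    obtain ⟨k, hk⟩ := hP ⟨w * v⁻¹, P.mul_mem hwP (P.inv_mem hv)⟩
    have h1 : w * v⁻¹ = 1 := D.two_inj (N₀.mul_mem (hPN hwP) (N₀.inv_mem (hPN hv)))
      (congrArg Subtype.val hk) (by
        rw [D.φ_mul (hPN hwP) (N₀.inv_mem (hPN hv)), D.φ_inv (hPN hv), hwv, mul_inv_cancel])
    exact mul_inv_eq_one.1 h1
  rcases h with h | h | h | h
  · left; exact key 1 P.one_mem (by rw [h, D.φ_one])
  · right; left; exact key t htP (by rw [h, D.φ_t])
  · right; right; left; exact key i hiP h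
  · right; right; right
    exact key _ (P.mul_mem hiP htP) (by rw [h, D.φ_mul (hPN hiP) D.tmem, D.φ_t])

theorem two_pow_of_mem {P : Subgroup Y} (hP : IsPGroup 2 P) {x : Y} (hx : x ∈ P) : ∃ k : ℕ, x ^ 2 ^ k = 1 := by
  obtain ⟨k, hk⟩ := hP ⟨x, hx⟩
  exact ⟨k, congrArg Subtype.val hk⟩

end

/-- Sylow's theorem inside a subgroup `M` containing a Sylow subgroup `T`. -/
theorem exists_conj_le {G : Type u} [Group G] [Finite G] (M : Subgroup G) (T : Sylow 2 G)
    (hTM : (T : Subgroup G) ≤ M) {V : Subgroup G} (hVM : V ≤ M) (hV : IsPGroup 2 V) :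
    ∃ m ∈ M, ∀ v ∈ V, m * v * m⁻¹ ∈ (T : Subgroup G) := by
  have : Fact (Nat.Prime 2) := ⟨Nat.prime_two⟩
  have hV' : IsPGroup 2 (V.subgroupOf M) := hV.of_equiv (Subgroup.subgroupOfEquivOfLe hVM).symm
  obtain ⟨P, hP⟩ := hV'.exists_le_sylow
  obtain ⟨m, hm⟩ := MulAction.exists_smul_eq M P (T.subtype hTM)
  refine ⟨m, m.2, ?_⟩
  intro v hv
  have h1 : (⟨v, hVM hv⟩ : M) ∈ P := hP hv
  have h2 : m * ⟨v, hVM hv⟩ * m⁻¹ ∈ (m • P : Sylow 2 M) :=
    Subgroup.smul_mem_pointwise_smul _ (MulAut.conj m) _ h1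
  rw [hm] at h2
  exact h2

/-- The elements moving `i` inside `i⟨t⟩`. -/
def stab {Y : Type u} [Group Y] {t i : Y} (ht2 : t * t = 1) (ht : ∀ y, y * t = t * y) : Subgroup Y where
  carrier := {g | g * i * g⁻¹ = i ∨ g * i * g⁻¹ = i * t}
  one_mem' := Or.inl (by group)
  mul_mem' := by
    intro a b ha hb
    have e : a * b * i * (a * b)⁻¹ = a * (b * i * b⁻¹) * a⁻¹ := by group
    have e2 : a * (i * t) * a⁻¹ = a * i * a⁻¹ * t := by
      calc a * (i * t) * a⁻¹ = a * i * (t * a⁻¹) := by group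
        _ = a * i * a⁻¹ * t := by rw [← ht]; group
    change a * b * i * (a * b)⁻¹ = i ∨ a * b * i * (a * b)⁻¹ = i * t
    rw [e]
    rcases hb with hb | hb <;> rw [hb]
    · exact ha
    · rw [e2]
      rcases ha with ha | ha <;> rw [ha]
      · right; rfl
      · left; rw [mul_assoc, ht2, mul_one]
  inv_mem' := by
    intro a ha
    change a⁻¹ * i * a⁻¹⁻¹ = i ∨ a⁻¹ * i * a⁻¹⁻¹ = i * t
    rcases ha with ha | ha
    · left
      calc a⁻¹ * i * a⁻¹⁻¹ = a⁻¹ * (a * i * a⁻¹) * a⁻¹⁻¹ := by rw [ha]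
        _ = i := by group
    · right
      have h1 : i = a * i * a⁻¹ * t := by rw [ha, mul_assoc, ht2, mul_one]
      calc a⁻¹ * i * a⁻¹⁻¹ = a⁻¹ * (a * i * a⁻¹ * t) * a⁻¹⁻¹ := by rw [← h1]
        _ = i * (a⁻¹ * (t * a)) := by group
        _ = i * t := by rw [← ht]; group

theorem exists_sylow_centralizer {Y : Type u} [Group Y] [Finite Y] {t i : Y} (ht2 : t * t = 1)
    (ht : ∀ y, y * t = t * y) (S : Sylow 2 Y)
    (hn : ∀ g ∈ (S : Subgroup Y), g * i * g⁻¹ = i ∨ g * i * g⁻¹ = i * t) :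
    ∃ T : Sylow 2 (centralizer ({i} : Set Y)), (T : Subgroup (centralizer ({i} : Set Y))) =
      (S : Subgroup Y).subgroupOf (centralizer ({i} : Set Y)) := by
  have : Fact (Nat.Prime 2) := ⟨Nat.prime_two⟩
  obtain ⟨P⟩ : Nonempty (Sylow 2 (centralizer ({i} : Set Y))) := inferInstance
  have hWN : centralizer ({i} : Set Y) ≤ stab (i := i) ht2 ht := by
    intro x hx
    left
    rw [mul_inv_eq_iff_eq_mul]
    exact mem_centralizer_singleton_iff.1 hx
  obtain ⟨m, hm, hmP⟩ := exists_conj_le (stab (i := i) ht2 ht) S (fun g hg => hn g hg)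
    (V := (P : Subgroup (centralizer ({i} : Set Y))).map (centralizer ({i} : Set Y)).subtype)
    ((Subgroup.map_subtype_le _).trans hWN) (P.2.map _)
  -- conjugation by `m` maps `P` into `S ⊓ W`
  have hmW : ∀ x ∈ centralizer ({i} : Set Y), m * x * m⁻¹ ∈ centralizer ({i} : Set Y) := by
    intro x hx
    have h1 := conj_mem_centralizer m hx
    rcases hm with h | h
    · rwa [h] at h1
    · rw [h] at h1
      rw [mem_centralizer_singleton_iff] at h1 ⊢
      have h2 : i = i * t * t := by rw [mul_assoc, ht2, mul_one]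
      calc m * x * m⁻¹ * i = (m * x * m⁻¹ * (i * t)) * t := by
            rw [← mul_assoc, mul_assoc _ t t, ht2, mul_one]
        _ = i * t * (m * x * m⁻¹) * t := by rw [h1]
        _ = i * t * ((m * x * m⁻¹) * t) := by group
        _ = i * t * t * (m * x * m⁻¹) := by rw [ht (m * x * m⁻¹)]; group
        _ = i * (m * x * m⁻¹) := by rw [← h2]
  have hQ : IsPGroup 2 ((S : Subgroup Y).subgroupOf (centralizer ({i} : Set Y))) :=
    S.2.comap_of_injective _ Subtype.coe_injective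
  obtain ⟨T, hT⟩ := hQ.exists_le_sylow
  refine ⟨T, (eq_of_le_of_card_ge hT ?_).symm⟩
  have h1 : Nat.card T = Nat.card P := T.card_eq_multiplicity.trans P.card_eq_multiplicity.symm
  rw [h1]
  refine Nat.card_le_card_of_injective (fun x : P => (⟨⟨m * (x : centralizer ({i} : Set Y)) * m⁻¹, hmW _ x.1.2⟩,
    hmP _ ⟨x, x.2, rfl⟩⟩ : (S : Subgroup Y).subgroupOf (centralizer ({i} : Set Y)))) ?_
  intro x y hxy
  have h2 : m * ((x : centralizer ({i} : Set Y)) : Y) * m⁻¹ = m * ((y : centralizer ({i} : Set Y)) : Y) * m⁻¹ :=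
    congrArg (fun a => ((a : (S : Subgroup Y).subgroupOf (centralizer ({i} : Set Y))) :
      centralizer ({i} : Set Y)).1) hxy
  exact Subtype.ext (Subtype.ext (mul_left_cancel (mul_right_cancel h2)))

/-- A normal `2`-subgroup lies in every Sylow `2`-subgroup. -/
theorem le_sylow_of_normal {G : Type u} [Group G] [Finite G] (P : Sylow 2 G) (U : Subgroup G) (hU : U.Normal)
    (hU2 : IsPGroup 2 U) : U ≤ (P : Subgroup G) := by
  have : Fact (Nat.Prime 2) := ⟨Nat.prime_two⟩
  obtain ⟨m, -, hm⟩ := exists_conj_le ⊤ P le_top (V := U) le_top hU2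
  intro x hx
  have h1 := hm _ (hU.conj_mem x hx m⁻¹)
  have h2 : m * (m⁻¹ * x * m⁻¹⁻¹) * m⁻¹ = x := by group
  rwa [h2] at h1

theorem inV_conj {C : Type v} [Group C] {z i g u : C} (hz : g * z = z * g) (hi : g * i = i * g) (h : InV z i u) :
    g * u * g⁻¹ = u := by
  rw [mul_inv_eq_iff_eq_mul]
  rcases h with rfl | rfl | rfl | rfl
  · rw [one_mul, mul_one]
  · exact hz
  · exact hi
  · rw [← mul_assoc, hi, mul_assoc, hz, mul_assoc]

/-- The normal subgroup `U` of the centraliser of `i`. -/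
def USub {C : Type v} [Group C] {z i : C} (F : IsTwoNine z) (L : Local z i) (hi : i * i = 1) :
    Subgroup (centralizer ({i} : Set C)) where
  carrier := {u | (u : C) * u = z ∨ InV z i (u : C)}
  one_mem' := Or.inr (Or.inl rfl)
  mul_mem' := by
    rintro ⟨a, ha⟩ ⟨b, hb⟩ h1 h2
    have hai := mem_centralizer_singleton_iff.1 ha
    have hbi := mem_centralizer_singleton_iff.1 hb
    have hV : ∀ u, InV z i u ↔ u ∈ four F.z_mul hi (F.z_comm i) := fun u => mem_four.symm
    have hsq : ∀ u, InV z i u → u * u = 1 := by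
      rintro u (rfl | rfl | rfl | rfl)
      · exact one_mul 1
      · exact F.z_mul
      · exact hi
      · calc i * z * (i * z) = i * (z * i) * z := by group
          _ = i * i * (z * z) := by rw [← F.z_comm]; group
          _ = 1 := by rw [hi, F.z_mul, one_mul]
    change a * b * (a * b) = z ∨ InV z i (a * b)
    change a * a = z ∨ InV z i a at h1
    change b * b = z ∨ InV z i b at h2
    rcases h1 with h1 | h1 <;> rcases h2 with h2 | h2
    · exact L.mul_closed a b h1 hai h2 hbi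
    · left
      have h3 := inV_conj (F.z_comm a) hai h2
      rw [mul_inv_eq_iff_eq_mul] at h3
      calc a * b * (a * b) = a * b * (b * a) := by rw [h3]
        _ = a * (b * b) * a := by group
        _ = z := by rw [hsq b h2, mul_one, h1]
    · left
      have h3 := inV_conj (F.z_comm b) hbi h1
      rw [mul_inv_eq_iff_eq_mul] at h3
      calc a * b * (a * b) = b * a * (a * b) := by rw [← h3]
        _ = b * (a * a) * b := by group
        _ = z := by rw [hsq a h1, mul_one, h2]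
    · right
      rw [hV] at h1 h2 ⊢
      exact mul_mem h1 h2
  inv_mem' := by
    rintro ⟨a, ha⟩ h1
    change a⁻¹ * a⁻¹ = z ∨ InV z i a⁻¹
    change a * a = z ∨ InV z i a at h1
    rcases h1 with h1 | h1
    · left
      rw [← mul_inv_rev, h1]
      exact inv_eq_of_mul_eq_one_left F.z_mul
    · right
      rw [← mem_four (ht := F.z_mul) (hi := hi) (hc := F.z_comm i)] at h1 ⊢
      exact inv_mem h1

theorem mem_USub {C : Type v} [Group C] {z i : C} {F : IsTwoNine z} {L : Local z i} {hi : i * i = 1}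
    {u : centralizer ({i} : Set C)} : u ∈ USub F L hi ↔ (u : C) * u = z ∨ InV z i (u : C) := Iff.rfl

theorem USub_normal {C : Type v} [Group C] {z i : C} (F : IsTwoNine z) (L : Local z i) (hi : i * i = 1) :
    (USub F L hi).Normal := by
  refine ⟨?_⟩
  rintro ⟨u, hu⟩ h1 ⟨g, hg⟩
  rw [mem_USub] at h1 ⊢
  change u * u = z ∨ InV z i u at h1
  change g * u * g⁻¹ * (g * u * g⁻¹) = z ∨ InV z i (g * u * g⁻¹)
  rcases h1 with h1 | h1
  · left
    calc g * u * g⁻¹ * (g * u * g⁻¹) = g * (u * u) * g⁻¹ := by group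
      _ = z := by rw [h1, F.z_comm]; group
  · right
    rwa [inV_conj (F.z_comm g) (mem_centralizer_singleton_iff.1 hg) h1]

theorem USub_two {C : Type v} [Group C] {z i : C} (F : IsTwoNine z) (L : Local z i) (hi : i * i = 1) :
    IsPGroup 2 (USub F L hi) := by
  rintro ⟨⟨u, hu⟩, h1⟩
  refine ⟨2, Subtype.ext (Subtype.ext ?_)⟩
  change u ^ 2 ^ 2 = 1
  rw [mem_USub] at h1
  change u * u = z ∨ InV z i u at h1
  have e : u ^ 2 ^ 2 = u * u * (u * u) := by rw [show (2 : ℕ) ^ 2 = 2 * 2 from rfl, pow_mul, pow_two, pow_two]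
  rw [e]
  rcases h1 with h1 | (rfl | rfl | rfl | rfl)
  · rw [h1, F.z_mul]
  · group
  · rw [F.z_mul, one_mul]
  · rw [hi, one_mul]
  · have h2 : i * z * (i * z) = 1 := by
      calc i * z * (i * z) = i * (z * i) * z := by group
        _ = i * i * (z * z) := by rw [← F.z_comm]; group
        _ = 1 := by rw [hi, F.z_mul, one_mul]
    rw [h2, one_mul]

section Main

variable {Y : Type u} [Group Y] [Finite Y] {C : Type v} [Group C] {N₀ : Subgroup Y} {t : Y} {z : C}
  (D : Data N₀ t z)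

theorem mem_centralizer_φ {i : Y} (hiN : i ∈ N₀) {x : Y} (hx : x ∈ N₀) (hxi : x * i = i * x) :
    D.φ x ∈ centralizer ({D.φ i} : Set C) := by
  rw [mem_centralizer_singleton_iff, ← D.φ_mul hx hiN, ← D.φ_mul hiN hx, hxi]

theorem φ_pow {x : Y} (hx : x ∈ N₀) (n : ℕ) : D.φ (x ^ n) = D.φ x ^ n := by
  induction n with
  | zero => rw [pow_zero, pow_zero, D.φ_one]
  | succ n ih => rw [pow_succ, pow_succ, D.φ_mul (N₀.pow_mem hx n) hx, ih]

/-- The projection restricted to centralisers. -/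
noncomputable def ψ {i : Y} (hiN : i ∈ N₀) :
    (N₀.subgroupOf (centralizer ({i} : Set Y))) →* centralizer ({D.φ i} : Set C) where
  toFun x := ⟨D.φ ((x : centralizer ({i} : Set Y)) : Y), mem_centralizer_φ D hiN x.2
    (mem_centralizer_singleton_iff.1 x.1.2)⟩
  map_one' := Subtype.ext D.φ_one
  map_mul' x y := Subtype.ext (D.φ_mul x.2 y.2)

theorem ψ_surjective {i : Y} (hiN : i ∈ N₀) (hi2 : i * i = 1) : Function.Surjective (ψ D hiN) := by
  rintro ⟨c, hc⟩
  obtain ⟨m, hm, h1, h2⟩ := D.exists_comm hiN (fun g => by rw [hi2, mul_one, one_mul])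
    (mem_centralizer_singleton_iff.1 hc)
  exact ⟨⟨⟨m, mem_centralizer_singleton_iff.2 h1⟩, hm⟩, Subtype.ext h2⟩

/-- Lifts of the elements of `U` to the Sylow subgroup. -/
theorem exists_lift_sylow {i : Y} (hiN : i ∈ N₀) (hi2 : i * i = 1) {S : Sylow 2 Y} (hS : (S : Subgroup Y) ≤ N₀)
    {T : Sylow 2 (centralizer ({i} : Set Y))} (hT : (T : Subgroup (centralizer ({i} : Set Y))) =
      (S : Subgroup Y).subgroupOf (centralizer ({i} : Set Y))) {c : C} (hc : c * D.φ i = D.φ i * c)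
    (F : IsTwoNine z) (L : Local z (D.φ i)) (hφi : D.φ i * D.φ i = 1) (hcU : c * c = z ∨ InV z (D.φ i) c) :
    ∃ s ∈ (S : Subgroup Y), s * i = i * s ∧ D.φ s = c := by
  have : Fact (Nat.Prime 2) := ⟨Nat.prime_two⟩
  have hTN : (T : Subgroup (centralizer ({i} : Set Y))) ≤ N₀.subgroupOf (centralizer ({i} : Set Y)) := by
    rw [hT]
    exact fun x hx => hS hx
  have hfin : Finite (centralizer ({D.φ i} : Set C)) := Finite.of_surjective _ (ψ_surjective D hiN hi2)
  have h1 := le_sylow_of_normal ((T.subtype hTN).mapSurjective (ψ_surjective D hiN hi2)) (USub F L hφi)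
    (USub_normal F L hφi) (USub_two F L hφi)
  have h2 : (⟨c, mem_centralizer_singleton_iff.2 hc⟩ : centralizer ({D.φ i} : Set C)) ∈ USub F L hφi := hcU
  obtain ⟨x, hx, hxc⟩ := h1 h2
  have hx' : (x : centralizer ({i} : Set Y)) ∈ (T : Subgroup (centralizer ({i} : Set Y))) := hx
  rw [hT] at hx'
  exact ⟨_, hx', mem_centralizer_singleton_iff.1 x.1.2, congrArg Subtype.val hxc⟩

/-- A moving involution in the Sylow subgroup. -/
theorem exists_moving_sylow {i : Y} (hiN : i ∈ N₀) (hi2 : i * i = 1) {S : Sylow 2 Y} (hS : (S : Subgroup Y) ≤ N₀)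
    {T : Sylow 2 (centralizer ({i} : Set Y))} (hT : (T : Subgroup (centralizer ({i} : Set Y))) =
      (S : Subgroup Y).subgroupOf (centralizer ({i} : Set Y)))
    (F : IsTwoNine z) (L : Local z (D.φ i)) :
    ∃ s ∈ (S : Subgroup Y), s * i = i * s ∧ s * s = 1 ∧ ¬ InV z (D.φ i) (D.φ s) := by
  have : Fact (Nat.Prime 2) := ⟨Nat.prime_two⟩
  obtain ⟨c, hc, hc2, hcV⟩ := L.moving
  have hTN : (T : Subgroup (centralizer ({i} : Set Y))) ≤ N₀.subgroupOf (centralizer ({i} : Set Y)) := by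
    rw [hT]
    exact fun x hx => hS hx
  have hfin : Finite (centralizer ({D.φ i} : Set C)) := Finite.of_surjective _ (ψ_surjective D hiN hi2)
  obtain ⟨⟨m, hm⟩, -, hmc⟩ := exists_conj_mem ⊤ ((T.subtype hTN).mapSurjective (ψ_surjective D hiN hi2)) le_top
    (d := (⟨c, mem_centralizer_singleton_iff.2 hc⟩ : centralizer ({D.φ i} : Set C))) (mem_top _) (k := 1)
    (Subtype.ext (by
      change c ^ 2 ^ 1 = 1
      rw [pow_one, pow_two, hc2]))
  obtain ⟨x, hx, hxc⟩ := hmc
  have hx' : (x : centralizer ({i} : Set Y)) ∈ (T : Subgroup (centralizer ({i} : Set Y))) := hx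
  rw [hT] at hx'
  have h3 : D.φ ((x : centralizer ({i} : Set Y)) : Y) = m * c * m⁻¹ := congrArg Subtype.val hxc
  have hxS : ((x : centralizer ({i} : Set Y)) : Y) ∈ (S : Subgroup Y) := hx'
  refine ⟨((x : centralizer ({i} : Set Y)) : Y), hxS, mem_centralizer_singleton_iff.1 x.1.2, ?_, ?_⟩
  · obtain ⟨k, hk⟩ := two_pow_of_mem S.2 ((S : Subgroup Y).mul_mem hxS hxS)
    refine D.two_inj (N₀.mul_mem (hS hxS) (hS hxS)) hk ?_
    rw [D.φ_mul (hS hxS) (hS hxS), h3]
    calc m * c * m⁻¹ * (m * c * m⁻¹) = m * (c * c) * m⁻¹ := by group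
      _ = 1 := by rw [hc2]; group
  · rw [h3]
    intro h4
    apply hcV
    have hm' : m⁻¹ * D.φ i = D.φ i * m⁻¹ := by
      have := mem_centralizer_singleton_iff.1 (inv_mem hm)
      exact this
    have h5 := inV_conj (F.z_comm m⁻¹) hm' h4
    have h6 : m⁻¹ * (m * c * m⁻¹) * m⁻¹⁻¹ = c := by group
    rw [h6] at h5
    rwa [h5]

/-- Conjugacy in `C_{N₀}(i)` of elements of square `t`. -/
theorem exists_conj_centralizer {i : Y} (hiN : i ∈ N₀) (hi2 : i * i = 1) (L : Local z (D.φ i)) {w w' : Y}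
    (hw : w ∈ N₀) (hwt : w * w = t) (hwi : w * i = i * w) (hw' : w' ∈ N₀) (hwt' : w' * w' = t)
    (hwi' : w' * i = i * w') : ∃ m ∈ N₀, m * i = i * m ∧ m * w * m⁻¹ = w' := by
  have h1 : D.φ w * D.φ w = z := by rw [← D.φ_mul hw hw, hwt, D.φ_t]
  have h2 : D.φ w * D.φ i = D.φ i * D.φ w := by rw [← D.φ_mul hw hiN, hwi, D.φ_mul hiN hw]
  have h1' : D.φ w' * D.φ w' = z := by rw [← D.φ_mul hw' hw', hwt', D.φ_t]
  have h2' : D.φ w' * D.φ i = D.φ i * D.φ w' := by rw [← D.φ_mul hw' hiN, hwi', D.φ_mul hiN hw']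
  obtain ⟨c, hc, hcw⟩ := L.transitive _ _ h1 h2 h1' h2'
  obtain ⟨m, hm, hmi, rfl⟩ := D.exists_comm hiN (fun g => by rw [hi2, mul_one, one_mul]) hc
  have hm1 : m * w * m⁻¹ ∈ N₀ := N₀.mul_mem (N₀.mul_mem hm hw) (N₀.inv_mem hm)
  have hmt : m * w * m⁻¹ * (m * w * m⁻¹) = t := by
    calc m * w * m⁻¹ * (m * w * m⁻¹) = m * (w * w) * m⁻¹ := by group
      _ = t := by rw [hwt, D.t_comm]; group
  obtain ⟨n, hn⟩ := D.conj_lift hw' hm1 (by rw [hwt', hmt]) (fun g => by rw [hmt, D.t_comm]) (by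
    rw [D.φ_conj hm hw, hcw])
  obtain ⟨k, hk⟩ : ∃ k, k = (w' * (m * w * m⁻¹)⁻¹) ^ n := ⟨_, rfl⟩
  have hkN : k ∈ N₀ := by rw [hk]; exact N₀.pow_mem (N₀.mul_mem hw' (N₀.inv_mem hm1)) _
  have hki : k ∈ centralizer ({i} : Set Y) := by
    rw [hk]
    refine Subgroup.pow_mem _ (Subgroup.mul_mem _ (mem_centralizer_singleton_iff.2 hwi')
      (Subgroup.inv_mem _ (Subgroup.mul_mem _ (Subgroup.mul_mem _ ?_ ?_) (Subgroup.inv_mem _ ?_)))) _
    · exact mem_centralizer_singleton_iff.2 hmi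
    · exact mem_centralizer_singleton_iff.2 hwi
    · exact mem_centralizer_singleton_iff.2 hmi
  rw [← hk] at hn
  refine ⟨k * m, N₀.mul_mem hkN hm, ?_, ?_⟩
  · exact mem_centralizer_singleton_iff.1 (Subgroup.mul_mem _ hki (mem_centralizer_singleton_iff.2 hmi))
  · rw [← hn]; group

theorem inV_sq {Y : Type u} [Group Y] {t i x : Y} (ht : t * t = 1) (hi : i * i = 1) (hc : i * t = t * i)
    (h : InV t i x) : x * x = 1 := by
  rcases h with h | h | h | h <;> rw [h]
  · exact one_mul 1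
  · exact ht
  · exact hi
  · calc i * t * (i * t) = i * (t * i) * t := by group
      _ = i * i * (t * t) := by rw [← hc]; group
      _ = 1 := by rw [hi, ht, one_mul]

include D in
theorem centralizer_le_of_sylow (F : IsTwoNine z)
    (hCw : ∀ w ∈ N₀, w * w = t → centralizer ({w} : Set Y) ≤ N₀) (S : Sylow 2 Y) (hS : (S : Subgroup Y) ≤ N₀)
    {i : Y} (hiS : i ∈ (S : Subgroup Y)) (hi2 : i * i = 1) (hi1 : i ≠ 1) (hit : i ≠ t)
    (hn : ∀ g ∈ (S : Subgroup Y), g * i * g⁻¹ = i ∨ g * i * g⁻¹ = i * t) :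
    centralizer ({i} : Set Y) ≤ N₀ := by
  have : Fact (Nat.Prime 2) := ⟨Nat.prime_two⟩
  obtain ⟨W, hW⟩ : ∃ W, W = centralizer ({i} : Set Y) := ⟨_, rfl⟩
  have hiN : i ∈ N₀ := hS hiS
  have htc : t * i = i * t := (D.t_comm i).symm
  have htS : t ∈ (S : Subgroup Y) := by
    obtain ⟨m, -, hm⟩ := exists_conj_mem ⊤ S le_top (d := t) (mem_top _) (k := 1) (by
      rw [pow_one, pow_two, D.t_sq])
    rwa [D.t_comm, mul_assoc, mul_inv_cancel, mul_one] at hm
  -- the image of `i`
  have hφi2 : D.φ i * D.φ i = 1 := by rw [← D.φ_mul hiN hiN, hi2, D.φ_one]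
  have hφi1 : D.φ i ≠ 1 := fun h => hi1 (D.two_inj hiN (k := 1) (by rw [pow_one, pow_two, hi2]) h)
  have hφiz : D.φ i ≠ z := by
    intro h
    have h1 : D.φ (i * t) = 1 := by rw [D.φ_mul hiN D.tmem, h, D.φ_t, F.z_mul]
    have h2 : i * t * (i * t) = 1 := by
      calc i * t * (i * t) = i * (t * i) * t := by group
        _ = i * i * (t * t) := by rw [htc]; group
        _ = 1 := by rw [hi2, D.t_sq, one_mul]
    have h3 := D.two_inj (N₀.mul_mem hiN D.tmem) (k := 1) (by rw [pow_one, pow_two, h2]) h1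
    apply hit
    rw [mul_eq_one_iff_eq_inv, D.t_inv] at h3
    exact h3
  have L := F.loc _ hφi2 hφi1 hφiz
  obtain ⟨T, hT⟩ := exists_sylow_centralizer D.t_sq D.t_comm S hn
  have hTmem : ∀ x : centralizer ({i} : Set Y), x ∈ (T : Subgroup (centralizer ({i} : Set Y))) ↔
      (x : Y) ∈ (S : Subgroup Y) := by
    intro x; rw [hT]; exact Iff.rfl
  have hcomm : ∀ x : centralizer ({i} : Set Y), (x : Y) * i = i * x := fun x =>
    mem_centralizer_singleton_iff.1 x.2
  -- the four-group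
  let V : Subgroup (centralizer ({i} : Set Y)) :=
    (four D.t_sq hi2 htc.symm).subgroupOf (centralizer ({i} : Set Y))
  have hVmem : ∀ x : centralizer ({i} : Set Y), x ∈ V ↔ InV t i (x : Y) := fun x =>
    mem_four (ht := D.t_sq) (hi := hi2) (hc := htc.symm)
  have hVn : V.Normal := by
    refine ⟨fun v hv g => ?_⟩
    rw [hVmem] at hv ⊢
    have h1 : ((g * v * g⁻¹ : centralizer ({i} : Set Y)) : Y) = v :=
      inV_conj (z := t) (i := i) (D.t_comm g) (hcomm g) hv
    rw [h1]; exact hv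
  have hVT : V ≤ (T : Subgroup (centralizer ({i} : Set Y))) := by
    intro x hx
    rw [hVmem] at hx
    rw [hTmem]
    rcases hx with h | h | h | h <;> rw [h]
    · exact one_mem _
    · exact htS
    · exact hiS
    · exact mul_mem hiS htS
  have ht1 : t ≠ 1 := by
    intro h
    apply F.z_ne
    have h1 : D.φ t = D.φ 1 := congrArg D.φ h
    rw [← D.φ_t, h1, D.φ_one]
  -- detection of `U`
  have hU1 : ∀ x : Y, x ∈ (S : Subgroup Y) → (x * x = t ∨ InV t i x) →
      (D.φ x * D.φ x = z ∨ InV z (D.φ i) (D.φ x)) := by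
    intro x hx h
    rcases h with h | h
    · left; rw [← D.φ_mul (hS hx) (hS hx), h, D.φ_t]
    · right; exact φ_inV D hiN h
  have hU2 : ∀ x : Y, x ∈ (S : Subgroup Y) → (D.φ x * D.φ x = z ∨ InV z (D.φ i) (D.φ x)) →
      (x * x = t ∨ InV t i x) := by
    intro x hx h
    rcases h with h | h
    · left
      have hxt : x * x * t ∈ (S : Subgroup Y) := mul_mem (mul_mem hx hx) htS
      obtain ⟨k, hk⟩ := two_pow_of_mem S.2 hxt
      have h1 := D.two_inj (hS hxt) hk (by
        rw [D.φ_mul (N₀.mul_mem (hS hx) (hS hx)) D.tmem, D.φ_mul (hS hx) (hS hx), h, D.φ_t, F.z_mul])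
      rw [mul_eq_one_iff_eq_inv, D.t_inv] at h1
      exact h1
    · right; exact inV_of_φ D S.2 hS htS hiS hx h
  have hTN : (T : Subgroup (centralizer ({i} : Set Y))) ≤ N₀.subgroupOf (centralizer ({i} : Set Y)) := by
    rw [hT]
    exact fun x hx => hS hx
  -- the quotient
  let q := QuotientGroup.mk' V
  have hqs : Function.Surjective q := QuotientGroup.mk'_surjective V
  have hqeq : ∀ x y, q x = q y → x⁻¹ * y ∈ V := fun x y h => QuotientGroup.eq.1 h
  have hq1 : ∀ x, q x = 1 ↔ x ∈ V := fun x => QuotientGroup.eq_one_iff x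
  let M := (N₀.subgroupOf (centralizer ({i} : Set Y))).map q
  have hVN : ∀ x ∈ V, (x : Y) ∈ N₀ := fun x hx => hTN (hVT hx)
  have hM : ∀ x, q x ∈ M ↔ (x : Y) ∈ N₀ := by
    intro x
    constructor
    · rintro ⟨y, hy, hxy⟩
      have h1 := hVN _ (hqeq _ _ hxy)
      have h2 : (x : Y) = y * ((y⁻¹ * x : centralizer ({i} : Set Y)) : Y) := by push_cast; group
      rw [h2]
      exact N₀.mul_mem hy h1
    · intro hx; exact ⟨x, hx, rfl⟩
  let T' : Sylow 2 (centralizer ({i} : Set Y) ⧸ V) := T.mapSurjective hqs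
  have hT' : ∀ x, q x ∈ (T' : Subgroup (centralizer ({i} : Set Y) ⧸ V)) ↔ (x : Y) ∈ (S : Subgroup Y) := by
    intro x
    constructor
    · rintro ⟨y, hy, hxy⟩
      have h1 := (hTmem _).1 (hVT (hqeq _ _ hxy))
      have h2 : (x : Y) = y * ((y⁻¹ * x : centralizer ({i} : Set Y)) : Y) := by push_cast; group
      rw [h2]
      exact mul_mem ((hTmem _).1 hy) h1
    · intro hx; exact ⟨x, (hTmem x).2 hx, rfl⟩
  let A : Subgroup (centralizer ({i} : Set Y) ⧸ V) :=
    ((USub F L hφi2).comap (ψ D hiN) ⊓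
      (T : Subgroup (centralizer ({i} : Set Y))).subgroupOf (N₀.subgroupOf (centralizer ({i} : Set Y)))).map
      (q.comp (N₀.subgroupOf (centralizer ({i} : Set Y))).subtype)
  have hA : ∀ x : centralizer ({i} : Set Y), (x : Y) ∈ (S : Subgroup Y) → ((x : Y) * x = t ∨ InV t i (x : Y)) →
      q x ∈ A := by
    intro x hx h
    exact ⟨⟨x, hS hx⟩, ⟨hU1 x hx h, (hTmem x).2 hx⟩, rfl⟩
  have hA' : ∀ a ∈ A, ∃ x : centralizer ({i} : Set Y), (x : Y) ∈ (S : Subgroup Y) ∧
      ((x : Y) * x = t ∨ InV t i (x : Y)) ∧ q x = a := by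
    rintro a ⟨x, ⟨hx1, hx2⟩, rfl⟩
    have hx3 : ((x : centralizer ({i} : Set Y)) : Y) ∈ (S : Subgroup Y) := (hTmem _).1 hx2
    exact ⟨x, hx3, hU2 _ hx3 hx1, rfl⟩
  have hA1 : ∀ a ∈ A, a ≠ 1 → ∃ x : centralizer ({i} : Set Y), (x : Y) ∈ (S : Subgroup Y) ∧
      (x : Y) * x = t ∧ q x = a := by
    intro a ha ha1
    obtain ⟨x, hx, hx2, hxa⟩ := hA' a ha
    rcases hx2 with h | h
    · exact ⟨x, hx, h, hxa⟩
    · exact absurd (hxa ▸ (hq1 x).2 ((hVmem x).2 h)) ha1
  have hcomT : ∀ x y : centralizer ({i} : Set Y), InV t i ((x * y * x⁻¹ * y⁻¹ : centralizer ({i} : Set Y)) : Y) →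
      q x * q y = q y * q x := by
    intro x y h
    have h1 := (hq1 _).2 ((hVmem _).2 h)
    rw [map_mul, map_mul, map_mul, map_inv, map_inv, mul_inv_eq_one, mul_inv_eq_iff_eq_mul] at h1
    exact h1
  have hcomT' : ∀ x y : centralizer ({i} : Set Y), q x * q y = q y * q x →
      InV t i ((x * y * x⁻¹ * y⁻¹ : centralizer ({i} : Set Y)) : Y) := by
    intro x y h
    rw [← hVmem, ← hq1, map_mul, map_mul, map_mul, map_inv, map_inv, h]
    group
  have hab : ∀ x ∈ (T' : Subgroup (centralizer ({i} : Set Y) ⧸ V)),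
      ∀ y ∈ (T' : Subgroup (centralizer ({i} : Set Y) ⧸ V)), x * y = y * x := by
    intro x hx y hy
    obtain ⟨x, rfl⟩ := hqs x
    obtain ⟨y, rfl⟩ := hqs y
    rw [hT'] at hx hy
    apply hcomT
    have hmem : ((x * y * x⁻¹ * y⁻¹ : centralizer ({i} : Set Y)) : Y) ∈ (S : Subgroup Y) :=
      mul_mem (mul_mem (mul_mem hx hy) (inv_mem hx)) (inv_mem hy)
    refine inV_of_φ D S.2 hS htS hiS hmem ?_
    have h1 : D.φ ((x * y * x⁻¹ * y⁻¹ : centralizer ({i} : Set Y)) : Y) =
        D.φ x * D.φ y * (D.φ x)⁻¹ * (D.φ y)⁻¹ := D.φ_comm (hS hx) (hS hy)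
    rw [h1]
    refine L.comm _ _ ?_ ?_ ?_ ?_
    · exact mem_centralizer_singleton_iff.1 (mem_centralizer_φ D hiN (hS hx) (hcomm x))
    · obtain ⟨k, hk⟩ := two_pow_of_mem S.2 hx
      exact ⟨k, by rw [← φ_pow D (hS hx), hk, D.φ_one]⟩
    · exact mem_centralizer_singleton_iff.1 (mem_centralizer_φ D hiN (hS hy) (hcomm y))
    · obtain ⟨k, hk⟩ := two_pow_of_mem S.2 hy
      exact ⟨k, by rw [← φ_pow D (hS hy), hk, D.φ_one]⟩
  have hfin : M = ⊤ := by
    refine eq_top_of_plane M T' ?_ hab A ?_ ?_ ?_ ?_ ?_ ?_ ?_ ?_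
    · intro x hx
      obtain ⟨x, rfl⟩ := hqs x
      rw [hT'] at hx
      exact (hM x).2 (hS hx)
    · -- elementary abelian
      refine Cfsg.Agent.NineCore.NoTarget.elem_mk ?_ ?_
      · intro a ha b hb
        obtain ⟨x, hx, -, rfl⟩ := hA' a ha
        obtain ⟨y, hy, -, rfl⟩ := hA' b hb
        exact hab _ ((hT' x).2 hx) _ ((hT' y).2 hy)
      · intro a ha
        obtain ⟨x, hx, hx2, rfl⟩ := hA' a ha
        rw [← map_mul, hq1, hVmem]
        change InV t i ((x : Y) * x)
        rcases hx2 with h | h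
        · rw [h]; right; left; rfl
        · rw [inV_sq D.t_sq hi2 htc.symm h]; left; rfl
    · -- more than two elements
      obtain ⟨c, c', hc, hc2, hc', hc'2, hcc⟩ := L.two
      obtain ⟨w, hw, hwi, hwc⟩ := exists_lift_sylow D hiN hi2 hS hT hc F L hφi2 (Or.inl hc2)
      obtain ⟨w', hw', hwi', hwc'⟩ := exists_lift_sylow D hiN hi2 hS hT hc' F L hφi2 (Or.inl hc'2)
      obtain ⟨x, hx⟩ : ∃ x : centralizer ({i} : Set Y), (x : Y) = w :=
        ⟨⟨w, mem_centralizer_singleton_iff.2 hwi⟩, rfl⟩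
      obtain ⟨x', hx'⟩ : ∃ x : centralizer ({i} : Set Y), (x : Y) = w' :=
        ⟨⟨w', mem_centralizer_singleton_iff.2 hwi'⟩, rfl⟩
      subst hx hx'
      have hxA : q x ∈ A := hA x hw (hU2 _ hw (Or.inl (by rw [hwc]; exact hc2)))
      have hxA' : q x' ∈ A := hA x' hw' (hU2 _ hw' (Or.inl (by rw [hwc']; exact hc'2)))
      have hne : ∀ (y : centralizer ({i} : Set Y)) (d : C), D.φ y = d → d * d = z → q y ≠ 1 := by
        intro y d hyd hd h
        rw [hq1, hVmem] at h
        have h1 := inV_sq F.z_mul hφi2 (F.z_comm _) (φ_inV D hiN h)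
        rw [hyd, hd] at h1
        exact F.z_ne h1
      have h1 := hne x c hwc hc2
      have h2 := hne x' c' hwc' hc'2
      have h3 : q x ≠ q x' := by
        intro h
        have h4 := hqeq _ _ h
        rw [hVmem] at h4
        have h5 := inV_sq F.z_mul hφi2 (F.z_comm _) (φ_inV D hiN h4)
        have h6 : D.φ ((x⁻¹ * x' : centralizer ({i} : Set Y)) : Y) = c⁻¹ * c' := by
          have : ((x⁻¹ * x' : centralizer ({i} : Set Y)) : Y) = (x : Y)⁻¹ * x' := by push_cast; rfl
          rw [this, D.φ_mul (N₀.inv_mem (hS hw)) (hS hw'), D.φ_inv (hS hw), hwc, hwc']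
        rw [h6] at h5
        have h7 : c⁻¹ = c * z := by
          refine inv_eq_of_mul_eq_one_left ?_
          rw [F.z_comm, mul_assoc, hc2, F.z_mul]
        have h8 : c⁻¹ * c' = c * c' * z := by rw [h7, mul_assoc, ← F.z_comm, mul_assoc]
        rw [h8] at h5
        apply F.z_ne
        have hz' : ∀ a : C, a * z * (a * z) = a * a := by
          intro a
          calc a * z * (a * z) = a * (z * a) * z := by group
            _ = a * (a * z) * z := by rw [F.z_comm a]
            _ = a * a * (z * z) := by group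
            _ = a * a := by rw [F.z_mul, mul_one]
        rw [hz', hcc] at h5
        exact h5
      have h4 : ({1, q x, q x'} : Set (centralizer ({i} : Set Y) ⧸ V)) ⊆ A := by
        intro a ha
        rcases ha with rfl | rfl | rfl
        · exact one_mem _
        · exact hxA
        · exact hxA'
      have h5 := Set.ncard_le_ncard h4 (Set.toFinite _)
      rw [Set.ncard_insert_of_notMem (by
        simp only [Set.mem_insert_iff, Set.mem_singleton_iff, not_or]
        exact ⟨h1.symm, h2.symm⟩), Set.ncard_pair h3] at h5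
      have h6 : (A : Set (centralizer ({i} : Set Y) ⧸ V)).ncard = Nat.card A := (Nat.card_coe_set_eq _).symm
      omega
    · -- contained in T'
      intro a ha
      obtain ⟨x, hx, -, rfl⟩ := hA' a ha
      exact (hT' x).2 hx
    · -- centralisers
      intro a ha ha1 g hg
      obtain ⟨x, hx, hxt, rfl⟩ := hA1 a ha ha1
      obtain ⟨g, rfl⟩ := hqs g
      have h1 := hcomT' g x (mem_centralizer_singleton_iff.1 hg)
      obtain ⟨y, hy⟩ : ∃ y : centralizer ({i} : Set Y), y = g * x * g⁻¹ := ⟨_, rfl⟩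
      have hyN : (y : Y) ∈ N₀ := by
        have h2 := hVN _ ((hVmem _).2 h1)
        have h3 : (y : Y) = ((g * x * g⁻¹ * x⁻¹ : centralizer ({i} : Set Y)) : Y) * x := by
          rw [hy]; push_cast; group
        rw [h3]
        exact N₀.mul_mem h2 (hS hx)
      have hyt : (y : Y) * y = t := by
        have h3 : (y : Y) * y = (g : Y) * (x * x) * (g : Y)⁻¹ := by rw [hy]; push_cast; group
        rw [h3, hxt, D.t_comm]; group
      obtain ⟨m, hm, hmi, hmx⟩ := exists_conj_centralizer D hiN hi2 L (hS hx) hxt (hcomm x) hyN hyt (hcomm y)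
      rw [hM]
      have h4 : m⁻¹ * (g : Y) ∈ centralizer ({(x : Y)} : Set Y) := by
        rw [mem_centralizer_singleton_iff]
        have h5 : (g : Y) * x = m * x * m⁻¹ * g := by rw [hmx, hy]; push_cast; group
        calc m⁻¹ * (g : Y) * x = m⁻¹ * ((g : Y) * x) := by group
          _ = x * (m⁻¹ * g) := by rw [h5]; group
      have h5 := hCw _ (hS hx) hxt h4
      have h6 : (g : Y) = m * (m⁻¹ * g) := by group
      rw [h6]
      exact N₀.mul_mem hm h5
    · -- transitivity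
      intro a ha b hb ha1 hb1
      obtain ⟨x, hx, hxt, rfl⟩ := hA1 a ha ha1
      obtain ⟨y, hy, hyt, rfl⟩ := hA1 b hb hb1
      obtain ⟨m, hm, hmi, hmx⟩ := exists_conj_centralizer D hiN hi2 L (hS hx) hxt (hcomm x) (hS hy) hyt (hcomm y)
      refine ⟨q ⟨m, mem_centralizer_singleton_iff.2 hmi⟩, (hM _).2 hm, ?_⟩
      rw [← map_mul, ← map_inv, ← map_mul]
      apply congrArg q
      exact Subtype.ext hmx
    · -- (3)
      intro c hc hcA g hg hgN hgc s hs
      obtain ⟨c, rfl⟩ := hqs c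
      obtain ⟨g, rfl⟩ := hqs g
      obtain ⟨s, rfl⟩ := hqs s
      have hcS := (hT' c).1 hc
      have hsS := (hT' s).1 hs
      have hgN₀ := (hM g).1 hg
      apply hcomT
      have hgs : ((g * s * g⁻¹ : centralizer ({i} : Set Y)) : Y) ∈ (S : Subgroup Y) := by
        rw [← hT', map_mul, map_mul, map_inv]
        exact (Subgroup.le_normalizer_iff.1 (le_refl _)) _ hgN _ hs
      have hmem : ((g * s * g⁻¹ * s⁻¹ : centralizer ({i} : Set Y)) : Y) ∈ (S : Subgroup Y) :=
        mul_mem hgs (inv_mem hsS)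
      refine inV_of_φ D S.2 hS htS hiS hmem ?_
      have h1 : D.φ ((g * s * g⁻¹ * s⁻¹ : centralizer ({i} : Set Y)) : Y) =
          D.φ g * D.φ s * (D.φ g)⁻¹ * (D.φ s)⁻¹ := D.φ_comm hgN₀ (hS hsS)
      have h2 : D.φ ((g * c * g⁻¹ * c⁻¹ : centralizer ({i} : Set Y)) : Y) =
          D.φ g * D.φ c * (D.φ g)⁻¹ * (D.φ c)⁻¹ := D.φ_comm hgN₀ (hS hcS)
      rw [h1]
      refine L.comm' (D.φ c) _ _ ?_ ?_ ?_ ?_ ?_ ?_ ?_ ?_
      · exact mem_centralizer_singleton_iff.1 (mem_centralizer_φ D hiN (hS hcS) (hcomm c))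
      · obtain ⟨k, hk⟩ := two_pow_of_mem S.2 hcS
        exact ⟨k, by rw [← φ_pow D (hS hcS), hk, D.φ_one]⟩
      · intro h
        exact hcA (hA c hcS (hU2 _ hcS (Or.inl h)))
      · intro h
        exact hcA (hA c hcS (hU2 _ hcS (Or.inr h)))
      · exact mem_centralizer_singleton_iff.1 (mem_centralizer_φ D hiN hgN₀ (hcomm g))
      · rw [← h2]
        exact φ_inV D hiN (hcomT' g c hgc)
      · exact mem_centralizer_singleton_iff.1 (mem_centralizer_φ D hiN (hS hsS) (hcomm s))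
      · obtain ⟨k, hk⟩ := two_pow_of_mem S.2 hsS
        exact ⟨k, by rw [← φ_pow D (hS hsS), hk, D.φ_one]⟩
    · -- strongly closed
      intro a ha g hg
      obtain ⟨x, hx, hx2, rfl⟩ := hA' a ha
      obtain ⟨g, rfl⟩ := hqs g
      rw [← map_inv, ← map_mul, ← map_mul] at hg ⊢
      refine hA _ ((hT' _).1 hg) ?_
      rcases hx2 with h | h
      · left
        have h3 : ((g * x * g⁻¹ : centralizer ({i} : Set Y)) : Y) * ((g * x * g⁻¹ : centralizer ({i} : Set Y)) : Y) =
            (g : Y) * (x * x) * (g : Y)⁻¹ := by push_cast; group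
        rw [h3, h, D.t_comm]; group
      · right
        rw [← hVmem] at h ⊢
        exact hVn.conj_mem x h g
    · -- moving involution
      obtain ⟨s, hs, hsi, hs2, hsV⟩ := exists_moving_sylow D hiN hi2 hS hT F L
      obtain ⟨s, rfl⟩ : ∃ x : centralizer ({i} : Set Y), (x : Y) = s :=
        ⟨⟨s, mem_centralizer_singleton_iff.2 hsi⟩, rfl⟩
      refine ⟨q s, (hT' s).2 hs, ?_, ?_⟩
      · intro h
        obtain ⟨x, hx, hx2, hxs⟩ := hA' _ h
        have h1 := (hVmem _).1 (hqeq _ _ hxs)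
        rcases hx2 with h2 | h2
        · apply ht1
          have h3 : (x : Y) * ((x⁻¹ * s : centralizer ({i} : Set Y)) : Y) * (x : Y)⁻¹ = ((x⁻¹ * s : centralizer ({i} : Set Y)) : Y) :=
            inV_conj (D.t_comm x) (hcomm x) h1
          have h4 := inV_sq D.t_sq hi2 htc.symm h1
          rw [mul_inv_eq_iff_eq_mul] at h3
          have h5 : (s : Y) = (x : Y) * ((x⁻¹ * s : centralizer ({i} : Set Y)) : Y) := by push_cast; group
          obtain ⟨v, hv⟩ : ∃ v, v = ((x⁻¹ * s : centralizer ({i} : Set Y)) : Y) := ⟨_, rfl⟩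
          rw [← hv] at h3 h4 h5
          calc t = (x : Y) * x := h2.symm
            _ = (x : Y) * x * (v * v) := by rw [h4, mul_one]
            _ = (x : Y) * (x * v) * v := by group
            _ = (x : Y) * (v * x) * v := by rw [h3]
            _ = (x : Y) * v * (x * v) := by group
            _ = 1 := by rw [← h5, hs2]
        · apply hsV
          apply φ_inV D hiN
          rw [← hVmem] at h1 h2 ⊢
          have h3 : s = x * (x⁻¹ * s) := by group
          rw [h3]
          exact mul_mem h2 h1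
      · rw [← map_mul]
        have : s * s = 1 := Subtype.ext hs2
        rw [this, map_one]
  intro x hx
  rw [← hM ⟨x, hx⟩, hfin]
  exact mem_top _

end Main

end Cfsg.Agent.TwoGenNineE.CentStep
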