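import Cfsg.Agent.TwoGenNineE.Wreath
import Cfsg.Agent.SporRec.LyFiveCov
import Cfsg.Agent.Transfer.PGroupNormal

/-!
# The facts on `2.A₉` used in part (E)
-/

set_option autoImplicit false
set_option linter.unusedSectionVars false

namespace Cfsg.Agent.TwoGenNineE.Facts

open Subgroup Equiv
open Cfsg.Agent.SporRec.TwoAn Cfsg.Agent.SporRec.TwoAnEleven
open Cfsg.Agent.TwoGenNineE.Wreath

/-- The facts on the centraliser of the involution `i`. -/
structure Local {C : Type*} [Group C] (z i : C) : Prop where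
  mul_closed : ∀ w w', w * w = z → w * i = i * w → w' * w' = z → w' * i = i * w' →
    w * w' * (w * w') = z ∨ InV z i (w * w')
  transitive : ∀ w w', w * w = z → w * i = i * w → w' * w' = z → w' * i = i * w' →
    ∃ m, m * i = i * m ∧ m * w * m⁻¹ = w'
  comm : ∀ g h, g * i = i * g → (∃ k : ℕ, g ^ 2 ^ k = 1) → h * i = i * h → (∃ l : ℕ, h ^ 2 ^ l = 1) →
    InV z i (g * h * g⁻¹ * h⁻¹)
  comm' : ∀ c g s, c * i = i * c → (∃ k : ℕ, c ^ 2 ^ k = 1) → c * c ≠ z → ¬ InV z i c → g * i = i * g →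
    InV z i (g * c * g⁻¹ * c⁻¹) → s * i = i * s → (∃ l : ℕ, s ^ 2 ^ l = 1) → InV z i (g * s * g⁻¹ * s⁻¹)
  moving : ∃ c, c * i = i * c ∧ c * c = 1 ∧ ¬ InV z i c
  two : ∃ w w', w * i = i * w ∧ w * w = z ∧ w' * i = i * w' ∧ w' * w' = z ∧ w * w' * (w * w') = z

/-- The facts on `2.A₉`. -/
structure IsTwoNine {C : Type*} [Group C] (z : C) : Prop where
  z_ne : z ≠ 1
  z_mul : z * z = 1
  z_comm : ∀ g, g * z = z * g
  inv_conj : ∀ v w, v * v = 1 → v ≠ 1 → v ≠ z → w * w = 1 → w ≠ 1 → w ≠ z → ∃ c, c * v * c⁻¹ = w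
  sq_conj : ∀ v w, v * v = z → w * w = z → ∃ c, c * v * c⁻¹ = w
  loc : ∀ i, i * i = 1 → i ≠ 1 → i ≠ z → Local z i
  sylow : ∀ P : Sylow 2 C, ∃ i ∈ (P : Subgroup C), i * i = 1 ∧ i ≠ 1 ∧ i ≠ z ∧
    ∀ g ∈ (P : Subgroup C), g * i * g⁻¹ = i ∨ g * i * g⁻¹ = i * z

variable {α : Type*} [Fintype α] [DecidableEq α] {C : Type*} [Group C] (K : Cover α C)

theorem exists_frame (hα : Fintype.card α = 9) {i : C} (h1 : i * i = 1) (h2 : i ≠ 1) (h3 : i ≠ K.z) :
    ∃ K' : Cover B C, K'.z = K.z ∧ K'.π i = Wreath.flip := by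
  have e₀ : α ≃ B := Fintype.equivOfCardEq (by rw [hα]; rfl)
  have hs : (e₀.permCongr (K.π i)).support.card = 8 :=
    card_support_of_involution (K.congr e₀) (by decide) h1 h2 h3
  have hsq : e₀.permCongr (K.π i) * e₀.permCongr (K.π i) = 1 := by
    have : (K.congr e₀).π i * (K.congr e₀).π i = 1 := by rw [← map_mul, h1, map_one]
    exact this
  have hflip : (Wreath.flip : Perm B) * Wreath.flip = 1 := by decide
  have hconj : IsConj (e₀.permCongr (K.π i)) (Wreath.flip : Perm B) := by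
    rw [Perm.isConj_iff_cycleType_eq, cycleType_of_involution hsq (k := 4) hs,
      cycleType_of_involution hflip (k := 4) support_flip]
  obtain ⟨c, hc⟩ := isConj_iff.1 hconj
  refine ⟨K.congr (e₀.trans c), rfl, ?_⟩
  rw [← hc]
  ext x
  rfl

theorem loc (hα : Fintype.card α = 9) {i : C} (h1 : i * i = 1) (h2 : i ≠ 1) (h3 : i ≠ K.z) : Local K.z i := by
  obtain ⟨K', hz, hi⟩ := exists_frame K hα h1 h2 h3
  rw [← hz]
  refine ⟨?_, ?_, ?_, ?_, ?_, ?_⟩
  · intro w w' a b c d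
    exact mul_closed K' hi a b c d
  · intro w w' a b c d
    exact transitive K' hi a b c d
  · rintro g h a ⟨k, b⟩ c ⟨l, d⟩
    exact inV_comm K' hi a b c d
  · rintro c g s a ⟨k, b⟩ d e f g' h ⟨l, j⟩
    exact inV_comm' K' hi a b d e f g' h j
  · exact exists_moving K' hi
  · exact exists_two K' hi

theorem sq_conj (hα : Fintype.card α = 9) {g h : C} (hg : g * g = K.z) (hh : h * h = K.z) :
    ∃ c, c * g * c⁻¹ = h := by
  have key : ∀ g : C, g * g = K.z → K.π g * K.π g = 1 ∧ (K.π g).support.card = 4 := by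
    intro g hg
    have h1 : K.π g * K.π g = 1 := by rw [← map_mul, hg, K.π_z]
    refine ⟨h1, ?_⟩
    obtain ⟨k, hk, hk2⟩ := K.exists_sq _ h1 rfl
    have hle : (K.π g).support.card ≤ 9 := by rw [← hα]; exact Finset.card_le_univ _
    rw [hg, K.z_pow] at hk2
    split_ifs at hk2 with he
    · exact absurd hk2 K.z_ne
    · rw [Nat.not_even_iff_odd] at he
      obtain ⟨m, hm⟩ := he
      omega
  obtain ⟨hg2, hgs⟩ := key g hg
  obtain ⟨hh2, hhs⟩ := key h hh
  have hconj : IsConj (K.π g) (K.π h) := by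
    rw [Perm.isConj_iff_cycleType_eq, cycleType_of_involution hg2 (k := 2) hgs,
      cycleType_of_involution hh2 (k := 2) hhs]
  obtain ⟨a, ha⟩ := Finset.card_pos.1 (show 0 < (K.π g).support.card by rw [hgs]; norm_num)
  rw [Perm.mem_support] at ha
  obtain ⟨c, hc, hcc⟩ := Cfsg.Agent.NineCore.TwoNine.exists_even_conj' hconj hg2 ha
  obtain ⟨d, rfl⟩ := K.exists_lift hc
  rw [← map_mul, ← map_inv, ← map_mul] at hcc
  rcases K.lift_eq hcc with e | e
  · exact ⟨d, e⟩
  · obtain ⟨w, hw⟩ := K.exists_conj_mul_z hh2 (by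
      intro h0
      rw [h0, Perm.support_one, Finset.card_empty] at hhs
      exact absurd hhs (by norm_num))
    refine ⟨w * d, ?_⟩
    calc w * d * g * (w * d)⁻¹ = w * (d * g * d⁻¹) * w⁻¹ := by group
      _ = w * h * w⁻¹ * K.z := by rw [e, ← mul_assoc, mul_assoc _ K.z, ← K.z_comm, ← mul_assoc]
      _ = h := by rw [hw, mul_assoc, K.z_mul_z, mul_one]

theorem sylow [Finite C] (hα : Fintype.card α = 9) (P : Sylow 2 C) :
    ∃ i ∈ (P : Subgroup C), i * i = 1 ∧ i ≠ 1 ∧ i ≠ K.z ∧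
      ∀ g ∈ (P : Subgroup C), g * i * g⁻¹ = i ∨ g * i * g⁻¹ = i * K.z := by
  have : Fact (Nat.Prime 2) := ⟨Nat.prime_two⟩
  have e : α ≃ V ⊕ Fin 1 := Fintype.equivOfCardEq (by rw [hα, Fintype.card_sum, card_V, Fintype.card_fin])
  let K' : Cover (V ⊕ Fin 1) C := K.congr e
  have hcard : Nat.card C = 362880 := by
    rw [Cfsg.Agent.SporRec.LyFiveCov.card_eq K (by omega), hα]; rfl
  have hN : Nat.card (normalizer (A K' : Set C)) = 2688 := by
    rw [card_normalizer_A]
    have : Nat.card (alternatingGroup (Fin 1)) = 1 := by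
      rw [Nat.card_eq_fintype_card]; rfl
    rw [this]
  have hidx : (normalizer (A K' : Set C)).index = 135 := by
    have := Subgroup.card_mul_index (normalizer (A K' : Set C))
    rw [hN, hcard] at this
    omega
  -- `P` fixes a coset
  obtain ⟨q, hq⟩ := P.isPGroup'.nonempty_fixed_point_of_prime_not_dvd_card
    (C ⧸ (normalizer (A K' : Set C))) (by
      have : Nat.card (C ⧸ (normalizer (A K' : Set C))) = 135 := hidx
      rw [this]; norm_num)
  obtain ⟨g, rfl⟩ := QuotientGroup.mk_surjective q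
  have hPN : ∀ x ∈ (P : Subgroup C), g⁻¹ * x * g ∈ normalizer (A K' : Set C) := by
    intro x hx
    have h1 : x • (QuotientGroup.mk g : C ⧸ (normalizer (A K' : Set C))) = QuotientGroup.mk g := hq ⟨x, hx⟩
    have h2 : (QuotientGroup.mk (x * g) : C ⧸ (normalizer (A K' : Set C))) = QuotientGroup.mk g := h1
    rw [QuotientGroup.eq] at h2
    have h3 := inv_mem h2
    have h4 : ((x * g)⁻¹ * g)⁻¹ = g⁻¹ * x * g := by group
    rwa [h4] at h3
  obtain ⟨E, hE⟩ : ∃ E : Subgroup C, E = (A K').map (MulAut.conj g).toMonoidHom := ⟨_, rfl⟩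
  have hmemE : ∀ x, x ∈ E ↔ g⁻¹ * x * g ∈ A K' := by
    intro x
    rw [hE, mem_map]
    constructor
    · rintro ⟨y, hy, rfl⟩
      have : g⁻¹ * ((MulAut.conj g).toMonoidHom y) * g = y := by
        rw [MulEquiv.coe_toMonoidHom, MulAut.conj_apply]; group
      rwa [this]
    · intro h
      refine ⟨_, h, ?_⟩
      rw [MulEquiv.coe_toMonoidHom, MulAut.conj_apply]; group
  have hPE : (P : Subgroup C) ≤ normalizer (E : Set C) := by
    rw [Subgroup.le_normalizer_iff]
    intro x hx y hy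
    rw [hmemE] at hy ⊢
    have h1 := (Subgroup.le_normalizer_iff.1 (le_refl (normalizer (A K' : Set C)))) _ (hPN x hx) _ hy
    have h2 : g⁻¹ * x * g * (g⁻¹ * y * g) * (g⁻¹ * x * g)⁻¹ = g⁻¹ * (x * y * x⁻¹) * g := by group
    rwa [h2] at h1
  have hEsq : ∀ x ∈ E, x * x = 1 := by
    intro x hx
    have h1 := mul_self_of_mem_A K' ((hmemE x).1 hx)
    have h2 : g⁻¹ * x * g * (g⁻¹ * x * g) = g⁻¹ * (x * x) * g := by group
    rw [h2] at h1
    have h3 : x * x = g * (g⁻¹ * (x * x) * g) * g⁻¹ := by group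
    rw [h3, h1]; group
  have hE2 : IsPGroup 2 E := fun x => ⟨1, by
    apply Subtype.ext
    rw [SubmonoidClass.coe_pow, pow_one, pow_two]
    exact hEsq x x.2⟩
  have hEP : E ≤ P := by
    have h1 : IsPGroup 2 ((P : Subgroup C) ⊔ E : Subgroup C) := P.isPGroup'.to_sup_of_normal_right' hE2 hPE
    have h2 := P.is_maximal' h1 le_sup_left
    rw [← h2]
    exact le_sup_right
  -- the image modulo `z`
  have hz : K'.z = K.z := rfl
  let P' := (P : Subgroup C).map K.π
  have hP' : IsPGroup 2 P' := P.isPGroup'.map _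
  let E' := (E.map K.π).subgroupOf P'
  have hE'n : E'.Normal := by
    refine (Subgroup.normal_subgroupOf_iff (Subgroup.map_mono hEP)).2 ?_
    rintro _ _ ⟨y, hy, rfl⟩ ⟨x, hx, rfl⟩
    exact ⟨x * y * x⁻¹, (Subgroup.le_normalizer_iff.1 hPE) x hx y hy, by simp⟩
  have hE'b : E' ≠ ⊥ := by
    intro hb
    have h1 : ∀ x ∈ E, x = 1 ∨ x = K.z := by
      intro x hx
      have h2 : (⟨K.π x, ⟨x, hEP hx, rfl⟩⟩ : P') ∈ E' := ⟨x, hx, rfl⟩
      rw [hb, Subgroup.mem_bot] at h2
      exact (K.ker x).1 (congrArg Subtype.val h2)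
    have h3 : (E : Set C) ⊆ {1, K.z} := fun x hx => h1 x hx
    have h4 : Nat.card E = 16 := by
      rw [hE, Subgroup.card_map_of_injective (MulAut.conj g).injective, card_A]
    have h5 : (E : Set C).ncard = 16 := by rw [← h4]; exact (Nat.card_coe_set_eq _).symm
    have h6 := Set.ncard_le_ncard h3 (Set.toFinite _)
    rw [Set.ncard_pair K.z_ne.symm] at h6
    omega
  obtain ⟨z', hz'E, hz'c, hz'o⟩ := Cfsg.Agent.Transfer.PGroupNormal.exists_mem_inf_center_orderOf hP' E' hE'b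
  obtain ⟨i, hiE, hi⟩ : ∃ i ∈ E, K.π i = z' := hz'E
  have hne : K.π i ≠ 1 := by
    intro h
    rw [hi] at h
    have : z' = 1 := Subtype.ext h
    rw [this, orderOf_one] at hz'o
    omega
  refine ⟨i, hEP hiE, hEsq i hiE, ?_, ?_, ?_⟩
  · rintro rfl; exact hne (map_one _)
  · rintro rfl; exact hne K.π_z
  · intro x hx
    apply K.lift_eq
    have h1 := Subgroup.mem_center_iff.1 hz'c ⟨K.π x, ⟨x, hx, rfl⟩⟩
    have h2 : K.π x * K.π i = K.π i * K.π x := by rw [hi]; exact congrArg Subtype.val h1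
    rw [map_mul, map_mul, map_inv, h2, mul_inv_cancel_right]

theorem facts [Finite C] (hα : Fintype.card α = 9) : IsTwoNine K.z where
  z_ne := K.z_ne
  z_mul := K.z_mul_z
  z_comm := K.z_comm
  inv_conj _ _ a b c d e f := Cfsg.Agent.NineCore.TwoNine.fus K (by omega) a b c d e f
  sq_conj _ _ a b := sq_conj K hα a b
  loc _ a b c := loc K hα a b c
  sylow P := sylow K hα P

end Cfsg.Agent.TwoGenNineE.Facts
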