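import Cfsg.Agent.NineCore.Proj
import Cfsg.Agent.TwoFusion.StronglyEmbeddedBasic
import Cfsg.Agent.Lib.CoprimeHyperplane

/-!
# Two general lemmas: strong embedding with fusion control, and an abelian Sylow `2`-subgroup with a
strongly closed four-group
-/

set_option autoImplicit false
set_option linter.unusedSectionVars false

namespace Cfsg.Agent.TwoGenNineE.Lemmas

open Subgroup Cfsg
open Cfsg.Agent.NineCore.Proj

variable {G : Type*} [Group G] [Finite G]

/-- A subgroup containing the centralisers of its involutions, controlling the fusion of its involutions and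
containing two classes of involutions is everything. -/
theorem eq_top_of_fusion (M : Subgroup G) (h2 : ∀ d ∈ M, d * d = 1 → d ≠ 1 → centralizer ({d} : Set G) ≤ M)
    (h3 : ∀ d ∈ M, ∀ d' ∈ M, d * d = 1 → d ≠ 1 → ∀ g, g * d * g⁻¹ = d' → ∃ m ∈ M, m * d * m⁻¹ = d')
    {a b : G} (ha : a ∈ M) (hb : b ∈ M) (ha2 : a * a = 1) (ha1 : a ≠ 1) (hb2 : b * b = 1) (hb1 : b ≠ 1)
    (hab : ∀ g, g * a * g⁻¹ ≠ b) : M = ⊤ := by
  by_contra hM
  obtain ⟨g, hg⟩ : ∃ g, g ∉ M := by
    by_contra hcon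
    push Not at hcon
    exact hM (eq_top_iff.2 fun x _ => hcon x)
  -- no involution in `M ∩ g M g⁻¹`
  have key : ∀ d ∈ M, d * d = 1 → d ≠ 1 → g * d * g⁻¹ ∈ M → False := by
    intro d hd hd2 hd1 hgd
    obtain ⟨m, hm, hmd⟩ := h3 d hd _ hgd hd2 hd1 g rfl
    apply hg
    have h4 : m⁻¹ * g ∈ centralizer ({d} : Set G) := by
      rw [mem_centralizer_singleton_iff]
      have h5 : g * d = m * d * m⁻¹ * g := by rw [hmd]; group
      calc m⁻¹ * g * d = m⁻¹ * (g * d) := by group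
        _ = d * (m⁻¹ * g) := by rw [h5]; group
    have h5 := h2 d hd hd2 hd1 h4
    have h6 : g = m * (m⁻¹ * g) := by group
    rw [h6]
    exact M.mul_mem hm h5
  obtain ⟨b', hb'⟩ : ∃ b', b' = g * b * g⁻¹ := ⟨_, rfl⟩
  have hoa : orderOf a = 2 := orderOf_two_iff.2 ⟨ha2, ha1⟩
  have hob : orderOf b' = 2 := by
    rw [hb', ← MulAut.conj_apply, MulEquiv.orderOf_eq]
    exact orderOf_two_iff.2 ⟨hb2, hb1⟩
  by_cases hodd : Odd (orderOf (a * b'))
  · obtain ⟨j, -, -, hj, -⟩ := Cfsg.Agent.TwoFusion.StronglyEmbeddedBasic.exists_swap a b' hoa hob hodd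
    apply hab (g⁻¹ * j)
    calc g⁻¹ * j * a * (g⁻¹ * j)⁻¹ = g⁻¹ * (j * a * j⁻¹) * g := by group
      _ = b := by rw [hj, hb']; group
  · obtain ⟨d, -, hdo, hda, hdb⟩ := Cfsg.Agent.TwoFusion.StronglyEmbeddedBasic.exists_commuting_involution a b' hoa
      hob (orderOf_pos _) hodd
    obtain ⟨hd2, hd1⟩ := orderOf_two_iff.1 hdo
    have hdM : d ∈ M := h2 a ha ha2 ha1 (mem_centralizer_singleton_iff.2 hda)
    have hdM' : g⁻¹ * d * g ∈ M := by
      refine h2 b hb hb2 hb1 (mem_centralizer_singleton_iff.2 ?_)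
      have h5 : d * (g * b * g⁻¹) = g * b * g⁻¹ * d := by rw [← hb']; exact hdb
      calc g⁻¹ * d * g * b = g⁻¹ * (d * (g * b * g⁻¹)) * g := by group
        _ = b * (g⁻¹ * d * g) := by rw [h5]; group
    refine key (g⁻¹ * d * g) hdM' ?_ ?_ ?_
    · calc g⁻¹ * d * g * (g⁻¹ * d * g) = g⁻¹ * (d * d) * g := by group
        _ = 1 := by rw [hd2]; group
    · intro h
      apply hd1
      calc d = g * (g⁻¹ * d * g) * g⁻¹ := by group
        _ = 1 := by rw [h]; group
    · have : g * (g⁻¹ * d * g) * g⁻¹ = d := by group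
      rw [this]; exact hdM

theorem centralizer_conj_le {M : Subgroup G} {m d : G} (hm : m ∈ M)
    (h : centralizer ({m * d * m⁻¹} : Set G) ≤ M) : centralizer ({d} : Set G) ≤ M := by
  intro x hx
  have h1 := h (conj_mem_centralizer m hx)
  have h2 : x = m⁻¹ * (m * x * m⁻¹) * m := by group
  rw [h2]
  exact M.mul_mem (M.mul_mem (M.inv_mem hm) h1) hm

/-- Conjugating an involution of `M` into a Sylow subgroup contained in `M`. -/
theorem exists_conj_mem (M : Subgroup G) (T : Sylow 2 G) (hTM : (T : Subgroup G) ≤ M) {d : G} (hd : d ∈ M)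
    {k : ℕ} (hd2 : d ^ 2 ^ k = 1) : ∃ m ∈ M, m * d * m⁻¹ ∈ (T : Subgroup G) := by
  have : Fact (Nat.Prime 2) := ⟨Nat.prime_two⟩
  have hp : IsPGroup 2 (zpowers (⟨d, hd⟩ : M)) := by
    have hdvd : orderOf (⟨d, hd⟩ : M) ∣ 2 ^ k := orderOf_dvd_of_pow_eq_one (Subtype.ext hd2)
    obtain ⟨j, -, hj⟩ := (Nat.dvd_prime_pow Nat.prime_two).1 hdvd
    rw [IsPGroup.iff_card]
    exact ⟨j, by rw [Nat.card_zpowers, hj]⟩
  obtain ⟨P, hP⟩ := hp.exists_le_sylow
  obtain ⟨m, hm⟩ := MulAction.exists_smul_eq M P (T.subtype hTM)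
  refine ⟨m, m.2, ?_⟩
  have h1 : (⟨d, hd⟩ : M) ∈ P := hP (mem_zpowers _)
  have h2 : m * ⟨d, hd⟩ * m⁻¹ ∈ (m • P : Sylow 2 M) := by
    exact Subgroup.smul_mem_pointwise_smul _ (MulAut.conj m) _ h1
  rw [hm] at h2
  exact h2

theorem eq_top_of_plane (M : Subgroup G) (T : Sylow 2 G) (hTM : (T : Subgroup G) ≤ M)
    (hab : ∀ x ∈ (T : Subgroup G), ∀ y ∈ (T : Subgroup G), x * y = y * x) (A : Subgroup G)
    (hA : IsElementaryAbelian 2 A) (hA4 : 2 < Nat.card A) (hAT : A ≤ T)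
    (h1 : ∀ a ∈ A, a ≠ 1 → centralizer ({a} : Set G) ≤ M)
    (h2 : ∀ a ∈ A, ∀ b ∈ A, a ≠ 1 → b ≠ 1 → ∃ m ∈ M, m * a * m⁻¹ = b)
    (h3 : ∀ c ∈ (T : Subgroup G), c ∉ A → ∀ g ∈ M, g ∈ normalizer ((T : Subgroup G) : Set G) → g * c = c * g →
      ∀ s ∈ (T : Subgroup G), g * s = s * g)
    (h4 : ∀ a ∈ A, ∀ g, g * a * g⁻¹ ∈ (T : Subgroup G) → g * a * g⁻¹ ∈ A)
    (h6 : ∃ c ∈ (T : Subgroup G), c ∉ A ∧ c * c = 1) : M = ⊤ := by
  have : Fact (Nat.Prime 2) := ⟨Nat.prime_two⟩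
  have hAne : A ≠ ⊥ := by
    intro h
    rw [h, Subgroup.card_bot] at hA4
    omega
  obtain ⟨a, haA, ha1⟩ : ∃ a ∈ A, a ≠ 1 := by
    obtain ⟨a, ha⟩ := Subgroup.ne_bot_iff_exists_ne_one.1 hAne
    exact ⟨a, a.2, fun e => ha (Subtype.ext e)⟩
  -- the normaliser of `T`
  have hN : normalizer ((T : Subgroup G) : Set G) ≤ M := by
    intro g hg
    have h5 : g * a * g⁻¹ ∈ A := h4 a haA g ((Subgroup.le_normalizer_iff.1 (le_refl _)) g hg a (hAT haA))
    have h7 : g * (a : G) * g⁻¹ ≠ 1 := by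
      intro h
      apply ha1
      calc (a : G) = g⁻¹ * (g * a * g⁻¹) * g := by group
        _ = 1 := by rw [h]; group
    obtain ⟨m, hm, hmd⟩ := h2 a haA _ h5 ha1 h7
    have h8 : m⁻¹ * g ∈ centralizer ({(a : G)} : Set G) := by
      rw [mem_centralizer_singleton_iff]
      have h5 : g * a = m * a * m⁻¹ * g := by rw [hmd]; group
      calc m⁻¹ * g * a = m⁻¹ * (g * a) := by group
        _ = a * (m⁻¹ * g) := by rw [h5]; group
    have h9 := h1 a haA ha1 h8
    have h6 : g = m * (m⁻¹ * g) := by group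
    rw [h6]
    exact M.mul_mem hm h9
  -- centralisers of the elements outside `A`
  have hC : ∀ c ∈ (T : Subgroup G), c ∉ A → centralizer ({c} : Set G) ≤ M := by
    intro c hcT hcA
    have hTL : (T : Subgroup G) ≤ centralizer ({c} : Set G) := by
      intro x hx
      rw [mem_centralizer_singleton_iff]
      exact hab x hx c hcT
    let P : Sylow 2 (centralizer ({c} : Set G)) := T.subtype hTL
    have hmemP : ∀ x : centralizer ({c} : Set G), x ∈ (P : Subgroup (centralizer ({c} : Set G))) ↔ (x : G) ∈ (T : Subgroup G) :=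
      fun x => Iff.rfl
    have hP : normalizer (P : Set (centralizer ({c} : Set G))) ≤
        centralizer (P : Set (centralizer ({c} : Set G))) := by
      intro x hx
      have hx1 : (x : G) ∈ normalizer ((T : Subgroup G) : Set G) := by
        rw [Subgroup.mem_normalizer_iff]
        intro y
        have hx : x ∈ normalizer ((P : Subgroup (centralizer ({c} : Set G))) : Set (centralizer ({c} : Set G))) := hx
        rw [Subgroup.mem_normalizer_iff] at hx
        constructor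
        · intro hy
          exact (hx ⟨y, hTL hy⟩).1 hy
        · intro hy
          have h5 := (hx (x⁻¹ * ⟨x * y * x⁻¹, hTL hy⟩ * x)).2 (by
            rw [hmemP]
            have : (x * (x⁻¹ * ⟨x * y * x⁻¹, hTL hy⟩ * x) * x⁻¹ : centralizer ({c} : Set G)) =
              ⟨x * y * x⁻¹, hTL hy⟩ := by group
            rw [this]; exact hy)
          rw [hmemP] at h5
          have h6 : ((x⁻¹ * ⟨x * y * x⁻¹, hTL hy⟩ * x : centralizer ({c} : Set G)) : G) = y := by
            push_cast; group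
          rwa [h6] at h5
      have hx2 : (x : G) * c = c * x := mem_centralizer_singleton_iff.1 x.2
      have hx3 := h3 c hcT hcA x (hN hx1) hx1 hx2
      rw [Subgroup.mem_centralizer_iff]
      intro y hy
      exact Subtype.ext (hx3 y hy).symm
    obtain ⟨Q, hQ⟩ : ∃ Q, Q = (MonoidHom.transferSylow P hP).ker := ⟨_, rfl⟩
    have hQn : Q.Normal := by rw [hQ]; infer_instance
    have hQc : Subgroup.IsComplement' Q (P : Subgroup _) := by
      rw [hQ]; exact MonoidHom.ker_transferSylow_isComplement' P hP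
    have hQ2 : ¬ 2 ∣ Nat.card Q := by rw [hQ]; exact MonoidHom.not_dvd_card_ker_transferSylow P hP
    let Q' : Subgroup G := Q.map (centralizer ({c} : Set G)).subtype
    have hQ'2 : ¬ 2 ∣ Nat.card Q' := by
      rw [Subgroup.card_map_of_injective Subtype.coe_injective]
      exact hQ2
    have hAQ' : A ≤ normalizer (Q' : Set G) := by
      rw [Subgroup.le_normalizer_iff]
      rintro x hx _ ⟨y, hy, rfl⟩
      exact ⟨⟨x, hTL (hAT hx)⟩ * y * ⟨x, hTL (hAT hx)⟩⁻¹, hQn.conj_mem y hy _, rfl⟩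
    have hQM : Q' ≤ M := by
      rw [← Cfsg.Agent.Lib.CoprimeHyperplane.iSup_centralizer_hyperplane hA hAne hQ'2 hAQ']
      refine iSup_le ?_
      rintro ⟨D, hDA, hD⟩
      have hDne : D ≠ ⊥ := by
        intro h
        have h1 := Subgroup.relIndex_mul_relIndex ⊥ D A bot_le hDA
        rw [hD, h, Subgroup.relIndex_bot_left, Subgroup.relIndex_bot_left, Subgroup.card_bot] at h1
        omega
      obtain ⟨d, hd⟩ := Subgroup.ne_bot_iff_exists_ne_one.1 hDne
      have hd1 : (d : G) ≠ 1 := fun e => hd (Subtype.ext e)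
      rintro x ⟨-, hx⟩
      refine h1 d (hDA d.2) hd1 ?_
      rw [mem_centralizer_singleton_iff]
      exact (mem_centralizer_iff.1 hx d d.2).symm
    intro x hx
    obtain ⟨⟨q, p⟩, hqp⟩ := hQc.2 ⟨x, hx⟩
    have h5 : x = (q : centralizer ({c} : Set G)) * ((p : centralizer ({c} : Set G)) : G) :=
      (congrArg Subtype.val hqp).symm
    rw [h5]
    exact M.mul_mem (hQM ⟨q, q.2, rfl⟩) (hTM p.2)
  have hCT : ∀ c ∈ (T : Subgroup G), c ≠ 1 → centralizer ({c} : Set G) ≤ M := by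
    intro c hc hc1
    by_cases hcA : c ∈ A
    · exact h1 c hcA hc1
    · exact hC c hc hcA
  have hcomm : IsMulCommutative (T : Subgroup G) := ⟨⟨fun x y => Subtype.ext (hab x x.2 y y.2)⟩⟩
  obtain ⟨c, hcT, hcA, hc2⟩ := h6
  have hc1 : c ≠ 1 := fun h => hcA (h ▸ A.one_mem)
  refine eq_top_of_fusion M ?_ ?_ (a := a) (b := c) (hTM (hAT haA)) (hTM hcT) ?_ ha1 hc2 hc1 ?_
  · intro d hd hd2 hd1
    obtain ⟨m, hm, hmd⟩ := exists_conj_mem M T hTM hd (k := 1) (by rw [pow_one, pow_two, hd2])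
    refine centralizer_conj_le hm (hCT _ hmd ?_)
    intro h
    apply hd1
    calc d = m⁻¹ * (m * d * m⁻¹) * m := by group
      _ = 1 := by rw [h]; group
  · intro d hd d' hd' hd2 hd1 g hg
    obtain ⟨m, hm, hmd⟩ := exists_conj_mem M T hTM hd (k := 1) (by rw [pow_one, pow_two, hd2])
    have hd'2 : d' * d' = 1 := by
      rw [← hg]
      calc g * d * g⁻¹ * (g * d * g⁻¹) = g * (d * d) * g⁻¹ := by group
        _ = 1 := by rw [hd2]; group
    obtain ⟨m', hm', hmd'⟩ := exists_conj_mem M T hTM hd' (k := 1) (by rw [pow_one, pow_two, hd'2])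
    obtain ⟨n, hn, hnd⟩ := T.conj_eq_normalizer_conj_of_mem (m * d * m⁻¹) (m * g⁻¹ * m'⁻¹) hmd (by
      have : (m * g⁻¹ * m'⁻¹)⁻¹ * (m * d * m⁻¹) * (m * g⁻¹ * m'⁻¹) = m' * (g * d * g⁻¹) * m'⁻¹ := by group
      rw [this, hg]
      exact hmd')
    refine ⟨m'⁻¹ * n⁻¹ * m, M.mul_mem (M.mul_mem (M.inv_mem hm') (M.inv_mem (hN hn))) hm, ?_⟩
    calc m'⁻¹ * n⁻¹ * m * d * (m'⁻¹ * n⁻¹ * m)⁻¹ = m'⁻¹ * (n⁻¹ * (m * d * m⁻¹) * n) * m' := by group
      _ = g * d * g⁻¹ := by rw [← hnd]; group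
      _ = d' := hg
  · have h5 := hA.2 a haA
    rwa [pow_two] at h5
  · intro g hg
    apply hcA
    rw [← hg]
    exact h4 a haA g (by rw [hg]; exact hcT)

end Cfsg.Agent.TwoGenNineE.Lemmas
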