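import Cfsg.Agent.TwoGenNineE.CentStep

/-!
# Part (E): a subgroup `N₀` of odd index with `N₀/O ≃ 2.A₉` containing the centraliser of an element `x`, `x² = t`, is
everything
-/

set_option autoImplicit false
set_option linter.unusedSectionVars false

namespace Cfsg.Agent.TwoGenNineE.PartE

open Subgroup Cfsg
open Cfsg.Agent.NineCore.Proj
open Cfsg.Agent.TwoGenNineE.Setup Cfsg.Agent.TwoGenNineE.Facts Cfsg.Agent.TwoGenNineE.Wreath
open Cfsg.Agent.TwoGenNineE.Lemmas Cfsg.Agent.TwoGenNineE.CentStep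
open Cfsg.Agent.SporRec.TwoAn

universe u v

variable {Y : Type u} [Group Y] [Finite Y] {C : Type v} [Group C] {N₀ : Subgroup Y} {t : Y} {z : C}
  (D : Data N₀ t z)

theorem eq_of_φ_eq {P : Subgroup Y} (hP : IsPGroup 2 P) (hPN : P ≤ N₀) {w v : Y} (hwP : w ∈ P) (hv : v ∈ P)
    (hwv : D.φ w = D.φ v) : w = v := by
  obtain ⟨k, hk⟩ := two_pow_of_mem hP (P.mul_mem hwP (P.inv_mem hv))
  have h1 : w * v⁻¹ = 1 := D.two_inj (N₀.mul_mem (hPN hwP) (N₀.inv_mem (hPN hv))) hk (by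
    rw [D.φ_mul (hPN hwP) (N₀.inv_mem (hPN hv)), D.φ_inv (hPN hv), hwv, mul_inv_cancel])
  exact mul_inv_eq_one.1 h1

include D in
/-- Fusion in `N₀` of the elements whose square is `1` or `t`. -/
theorem exists_conj_of_sq (F : IsTwoNine z) {y y' : Y} (hy : y ∈ N₀) (hy' : y' ∈ N₀) (hyy : y * y = y' * y')
    (hsq : y * y = 1 ∨ y * y = t) (h1 : y ≠ 1) (ht : y ≠ t) (h1' : y' ≠ 1) (ht' : y' ≠ t) :
    ∃ m ∈ N₀, m * y * m⁻¹ = y' := by
  have hφ1 : ∀ w ∈ N₀, w * w = 1 → w ≠ 1 → D.φ w ≠ 1 := by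
    intro w hw hw2 hw1 h
    exact hw1 (D.two_inj hw (k := 1) (by rw [pow_one, pow_two, hw2]) h)
  rcases hsq with h | h
  · have hφz : ∀ w ∈ N₀, w * w = 1 → w ≠ t → D.φ w ≠ z := by
      intro w hw hw2 hwt h
      have h1 : D.φ (w * t) = 1 := by rw [D.φ_mul hw D.tmem, h, D.φ_t, F.z_mul]
      have h2 : w * t * (w * t) = 1 := by
        calc w * t * (w * t) = w * (t * w) * t := by group
          _ = w * w * (t * t) := by rw [← D.t_comm]; group
          _ = 1 := by rw [hw2, D.t_sq, one_mul]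
      have h3 := D.two_inj (N₀.mul_mem hw D.tmem) (k := 1) (by rw [pow_one, pow_two, h2]) h1
      apply hwt
      rw [mul_eq_one_iff_eq_inv, D.t_inv] at h3
      exact h3
    have h' : y' * y' = 1 := by rw [← hyy, h]
    have hsqφ : ∀ w ∈ N₀, w * w = 1 → D.φ w * D.φ w = 1 := by
      intro w hw hw2
      rw [← D.φ_mul hw hw, hw2, D.φ_one]
    obtain ⟨c, hc⟩ := F.inv_conj (D.φ y) (D.φ y') (hsqφ y hy h) (hφ1 y hy h h1) (hφz y hy h ht) (hsqφ y' hy' h')
      (hφ1 y' hy' h' h1') (hφz y' hy' h' ht')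
    obtain ⟨m, hm, hmy, -⟩ := D.exists_conj hy hy' hyy (fun g => by rw [h', mul_one, one_mul]) hc
    exact ⟨m, hm, hmy⟩
  · have h' : y' * y' = t := by rw [← hyy, h]
    obtain ⟨c, hc⟩ := F.sq_conj (D.φ y) (D.φ y') (by rw [← D.φ_mul hy hy, h, D.φ_t])
      (by rw [← D.φ_mul hy' hy', h', D.φ_t])
    obtain ⟨m, hm, hmy, -⟩ := D.exists_conj hy hy' hyy (fun g => by rw [h', D.t_comm]) hc
    exact ⟨m, hm, hmy⟩

include D in
theorem eq_top (F : IsTwoNine z) (hodd : Odd N₀.index) {x : Y} (hxN : x ∈ N₀) (hxt : x * x = t)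
    (hx : centralizer ({x} : Set Y) ≤ N₀) : N₀ = ⊤ := by
  have : Fact (Nat.Prime 2) := ⟨Nat.prime_two⟩
  have ht1 : t ≠ 1 := by
    intro h
    apply F.z_ne
    have h1 : D.φ t = D.φ 1 := congrArg D.φ h
    rw [← D.φ_t, h1, D.φ_one]
  have hxne1 : x ≠ 1 := by
    rintro rfl
    rw [mul_one] at hxt
    exact ht1 hxt.symm
  have hxnet : x ≠ t := by
    intro h
    rw [h, D.t_sq] at hxt
    exact ht1 hxt.symm
  -- centralisers of elements of square `t`
  have hCw : ∀ w ∈ N₀, w * w = t → centralizer ({w} : Set Y) ≤ N₀ := by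
    intro w hw hwt
    have hw1 : w ≠ 1 := by
      rintro rfl
      rw [mul_one] at hwt
      exact ht1 hwt.symm
    have hwt' : w ≠ t := by
      intro h
      rw [h, D.t_sq] at hwt
      exact ht1 hwt.symm
    obtain ⟨m, hm, hmw⟩ := exists_conj_of_sq D F hw hxN (by rw [hxt, hwt]) (Or.inr hwt) hw1 hwt' hxne1 hxnet
    refine centralizer_conj_le hm ?_
    rw [hmw]
    exact hx
  -- a Sylow subgroup
  obtain ⟨P⟩ : Nonempty (Sylow 2 N₀) := inferInstance
  have hidx : ¬ 2 ∣ ((P : Subgroup N₀).map N₀.subtype).index := by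
    rw [Subgroup.index_map_subtype]
    intro h
    rcases (Nat.prime_two.dvd_mul).1 h with h | h
    · exact P.not_dvd_index h
    · exact (Nat.not_even_iff_odd.2 hodd) (even_iff_two_dvd.2 h)
  let S : Sylow 2 Y := IsPGroup.toSylow (P.2.map N₀.subtype) hidx
  have hSmem : ∀ y : Y, y ∈ (S : Subgroup Y) ↔ ∃ h : y ∈ N₀, (⟨y, h⟩ : N₀) ∈ (P : Subgroup N₀) := by
    intro y
    constructor
    · rintro ⟨w, hw, rfl⟩
      exact ⟨w.2, hw⟩
    · rintro ⟨h, hy⟩
      exact ⟨_, hy, rfl⟩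
  have hS : (S : Subgroup Y) ≤ N₀ := fun y hy => ((hSmem y).1 hy).1
  have hfinC : Finite C := Finite.of_surjective _ D.surj
  obtain ⟨i', hi', hi'2, hi'1, hi'z, hi'n⟩ := F.sylow (P.mapSurjective D.surj)
  obtain ⟨s, hs, hsi⟩ : ∃ s ∈ (P : Subgroup N₀), D.f s = i' := hi'
  obtain ⟨i, hi⟩ : ∃ i, i = (s : Y) := ⟨_, rfl⟩
  have hiS : i ∈ (S : Subgroup Y) := by rw [hi]; exact ⟨s, hs, rfl⟩
  have hφi : D.φ i = i' := by rw [hi, D.φ_of_mem s.2, ← hsi]
  have hi2 : i * i = 1 := by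
    obtain ⟨k, hk⟩ := two_pow_of_mem S.2 (mul_mem hiS hiS)
    refine D.two_inj (N₀.mul_mem (hS hiS) (hS hiS)) hk ?_
    rw [D.φ_mul (hS hiS) (hS hiS), hφi, hi'2]
  have hi1 : i ≠ 1 := by
    intro h
    rw [h, D.φ_one] at hφi
    exact hi'1 hφi.symm
  have hit : i ≠ t := by
    intro h
    apply hi'z
    have h1 : D.φ i = D.φ t := congrArg D.φ h
    rw [← hφi, h1, D.φ_t]
  have htS : t ∈ (S : Subgroup Y) := by
    obtain ⟨m, -, hm⟩ := exists_conj_mem ⊤ S le_top (d := t) (mem_top _) (k := 1) (by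
      rw [pow_one, pow_two, D.t_sq])
    rwa [D.t_comm, mul_assoc, mul_inv_cancel, mul_one] at hm
  have hn : ∀ g ∈ (S : Subgroup Y), g * i * g⁻¹ = i ∨ g * i * g⁻¹ = i * t := by
    intro g hg
    obtain ⟨hgN, hgP⟩ := (hSmem g).1 hg
    have hgi : g * i * g⁻¹ ∈ (S : Subgroup Y) := mul_mem (mul_mem hg hiS) (inv_mem hg)
    have h1 := hi'n (D.f ⟨g, hgN⟩) ⟨_, hgP, rfl⟩
    have h2 : D.φ (g * i * g⁻¹) = D.f ⟨g, hgN⟩ * i' * (D.f ⟨g, hgN⟩)⁻¹ := by
      rw [D.φ_conj hgN (hS hiS), hφi, D.φ_of_mem hgN]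
    rcases h1 with h1 | h1
    · left
      exact eq_of_φ_eq D S.2 hS hgi hiS (by rw [h2, h1, hφi])
    · right
      exact eq_of_φ_eq D S.2 hS hgi (mul_mem hiS htS) (by rw [h2, h1, D.φ_mul (hS hiS) D.tmem, hφi, D.φ_t])
  have hCi := centralizer_le_of_sylow D F hCw S hS hiS hi2 hi1 hit hn
  -- centralisers of involutions
  have hCd : ∀ d ∈ N₀, d * d = 1 → d ≠ 1 → d ≠ t → centralizer ({d} : Set Y) ≤ N₀ := by
    intro d hd hd2 hd1 hdt
    obtain ⟨m, hm, hmd⟩ := exists_conj_of_sq D F hd (hS hiS) (by rw [hd2, hi2]) (Or.inl hd2) hd1 hdt hi1 hit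
    refine centralizer_conj_le hm ?_
    rw [hmd]
    exact hCi
  -- the quotient modulo `t`
  have hZmem : ∀ y, y ∈ zpowers t ↔ y = 1 ∨ y = t := by
    intro y
    constructor
    · rintro ⟨k, rfl⟩
      change t ^ k = 1 ∨ t ^ k = t
      rcases Int.even_or_odd' k with ⟨j, rfl | rfl⟩
      · left
        rw [zpow_mul, zpow_two, D.t_sq, one_zpow]
      · right
        rw [zpow_add, zpow_mul, zpow_two, D.t_sq, one_zpow, one_mul, zpow_one]
    · rintro (rfl | rfl)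
      · exact one_mem _
      · exact mem_zpowers _
  have hZn : (zpowers t).Normal := by
    refine ⟨fun v hv g => ?_⟩
    have h1 : g * v * g⁻¹ = v := by
      rw [hZmem] at hv
      rcases hv with rfl | rfl
      · group
      · rw [D.t_comm]; group
    rwa [h1]
  let q := QuotientGroup.mk' (zpowers t)
  have hqs : Function.Surjective q := QuotientGroup.mk'_surjective _
  have hqeq : ∀ x y, q x = q y → y = x ∨ y = x * t := by
    intro x y h
    have h1 : x⁻¹ * y ∈ zpowers t := QuotientGroup.eq.1 h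
    rw [hZmem] at h1
    rcases h1 with h1 | h1
    · left; exact (inv_mul_eq_one.1 h1).symm
    · right; exact inv_mul_eq_iff_eq_mul.1 h1
  have hq1 : ∀ x, q x = 1 ↔ x = 1 ∨ x = t := fun x => (QuotientGroup.eq_one_iff x).trans (hZmem x)
  let M := N₀.map q
  have hM : ∀ x, q x ∈ M ↔ x ∈ N₀ := by
    intro x
    constructor
    · rintro ⟨y, hy, hxy⟩
      rcases hqeq _ _ hxy with h | h
      · rw [h]; exact hy
      · rw [h]; exact N₀.mul_mem hy D.tmem
    · intro hx; exact ⟨x, hx, rfl⟩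
  have hsqt : ∀ y, y * t * (y * t) = y * y := by
    intro y
    calc y * t * (y * t) = y * (t * y) * t := by group
      _ = y * y * (t * t) := by rw [← D.t_comm]; group
      _ = y * y := by rw [D.t_sq, mul_one]
  -- conjugacy of `y` and `y'` modulo `t`
  have hconj : ∀ y ∈ N₀, ∀ y' ∈ N₀, q y * q y = 1 → q y ≠ 1 → ∀ g, q g * q y * (q g)⁻¹ = q y' →
      (∃ m ∈ N₀, m * y * m⁻¹ = g * y * g⁻¹) := by
    intro y hy y' hy' hyy hy1 g hg
    rw [← map_mul, hq1] at hyy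
    rw [Ne, hq1, not_or] at hy1
    rw [← map_inv, ← map_mul, ← map_mul] at hg
    have hgN : g * y * g⁻¹ ∈ N₀ := by
      rcases hqeq _ _ hg with h | h
      · rw [← h]; exact hy'
      · have : g * y * g⁻¹ = y' * t := by rw [h, mul_assoc _ t t, D.t_sq, mul_one]
        rw [this]; exact N₀.mul_mem hy' D.tmem
    refine exists_conj_of_sq D F hy hgN ?_ hyy hy1.1 hy1.2 ?_ ?_
    · have h1 : g * y * g⁻¹ * (g * y * g⁻¹) = g * (y * y) * g⁻¹ := by group
      rw [h1]
      rcases hyy with h | h <;> rw [h]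
      · group
      · rw [D.t_comm]; group
    · intro h
      apply hy1.1
      calc y = g⁻¹ * (g * y * g⁻¹) * g := by group
        _ = 1 := by rw [h]; group
    · intro h
      apply hy1.2
      calc y = g⁻¹ * (g * y * g⁻¹) * g := by group
        _ = g⁻¹ * t * g := by rw [h]
        _ = t := by rw [D.t_comm]; group
  have hfin : M = ⊤ := by
    refine eq_top_of_fusion M ?_ ?_ (a := q x) (b := q i) ((hM x).2 hxN) ((hM i).2 (hS hiS)) ?_ ?_ ?_ ?_ ?_
    · intro d hd hd2 hd1 g hg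
      obtain ⟨y, rfl⟩ := hqs d
      obtain ⟨g, rfl⟩ := hqs g
      have hy := (hM y).1 hd
      have hg' : q g * q y * (q g)⁻¹ = q y := by
        rw [mul_inv_eq_iff_eq_mul]; exact mem_centralizer_singleton_iff.1 hg
      obtain ⟨m, hm, hmy⟩ := hconj y hy y hy hd2 hd1 g hg'
      rw [hM]
      have h4 : m⁻¹ * g ∈ centralizer ({y} : Set Y) := by
        rw [mem_centralizer_singleton_iff]
        have h5 : g * y = m * y * m⁻¹ * g := by rw [hmy]; group
        calc m⁻¹ * g * y = m⁻¹ * (g * y) := by group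
          _ = y * (m⁻¹ * g) := by rw [h5]; group
      have hCy : centralizer ({y} : Set Y) ≤ N₀ := by
        rw [← map_mul, hq1] at hd2
        rw [Ne, hq1, not_or] at hd1
        rcases hd2 with h | h
        · exact hCd y hy h hd1.1 hd1.2
        · exact hCw y hy h
      have h6 : g = m * (m⁻¹ * g) := by group
      rw [h6]
      exact N₀.mul_mem hm (hCy h4)
    · intro d hd d' hd' hd2 hd1 g hg
      obtain ⟨y, rfl⟩ := hqs d
      obtain ⟨y', rfl⟩ := hqs d'
      obtain ⟨g, rfl⟩ := hqs g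
      obtain ⟨m, hm, hmy⟩ := hconj y ((hM y).1 hd) y' ((hM y').1 hd') hd2 hd1 g hg
      refine ⟨q m, (hM m).2 hm, ?_⟩
      rw [← hg, ← map_inv, ← map_mul, ← map_mul, hmy, map_mul, map_mul, map_inv]
    · rw [← map_mul, hq1, hxt]; right; rfl
    · rw [Ne, hq1, not_or]; exact ⟨hxne1, hxnet⟩
    · rw [← map_mul, hq1, hi2]; left; rfl
    · rw [Ne, hq1, not_or]; exact ⟨hi1, hit⟩
    · intro g hg
      obtain ⟨g, rfl⟩ := hqs g
      rw [← map_inv, ← map_mul, ← map_mul] at hg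
      have h1 : g * x * g⁻¹ * (g * x * g⁻¹) = t := by
        calc g * x * g⁻¹ * (g * x * g⁻¹) = g * (x * x) * g⁻¹ := by group
          _ = t := by rw [hxt, D.t_comm]; group
      apply ht1
      rcases hqeq _ _ hg with h | h
      · rw [← h1, ← h, hi2]
      · rw [← h1, ← hsqt (g * x * g⁻¹), ← h, hi2]
  rw [eq_top_iff]
  intro y _
  rw [← hM, hfin]
  exact mem_top _

/-- Part (E) for covers of `A₉`. -/
theorem eq_top_of_cover {α : Type*} [Fintype α] [DecidableEq α] (hα : Fintype.card α = 9) {X : Type v} [Group X]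
    (K : Cover α X) (f : N₀ →* X) (hf : Function.Surjective f) (hker : Odd (Nat.card f.ker)) (htN : t ∈ N₀)
    (hft : f ⟨t, htN⟩ = K.z) (ht2 : t * t = 1) (htc : ∀ y, y * t = t * y) (hodd : Odd N₀.index) {x : Y}
    (hxN : x ∈ N₀) (hxt : x * x = t) (hx : centralizer ({x} : Set Y) ≤ N₀) : N₀ = ⊤ := by
  have hfin : Finite X := Finite.of_surjective _ hf
  exact eq_top ⟨f, hf, hker, htN, hft, ht2, htc⟩ (facts K hα) hodd hxN hxt hx

end Cfsg.Agent.TwoGenNineE.PartE
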