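import Cfsg.Agent.TwoGenNineE.Lemmas
import Cfsg.Agent.TwoGenNineE.Facts

/-!
# Projections `N₀ → X` with odd kernel: lifting tools
-/

set_option autoImplicit false
set_option linter.unusedSectionVars false

namespace Cfsg.Agent.TwoGenNineE.Setup

open Subgroup Cfsg
open Cfsg.Agent.NineCore.Proj

universe u v

theorem exists_conj_of_inv {G : Type*} [Group G] {x y : G} {N : Subgroup G} [Finite N] (hN : Odd (Nat.card N))
    (hxy : x * y⁻¹ ∈ N) (hinv : y * (x * y⁻¹) * y⁻¹ = (x * y⁻¹)⁻¹) :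
    ∃ n : ℕ, (x * y⁻¹) ^ n * y * ((x * y⁻¹) ^ n)⁻¹ = x := by
  obtain ⟨d, hd⟩ : ∃ d, d = x * y⁻¹ := ⟨_, rfl⟩
  rw [← hd] at hxy hinv ⊢
  obtain ⟨m, hm⟩ := hN
  have hdm : d ^ (Nat.card N) = 1 := by
    have h : (⟨d, hxy⟩ : N) ^ (Nat.card N) = 1 := pow_card_eq_one'
    have h2 : ((⟨d, hxy⟩ : N) ^ (Nat.card N) : N).1 = 1 := by rw [h]; rfl
    rw [SubmonoidClass.coe_pow] at h2
    exact h2
  refine ⟨m + 1, ?_⟩
  have h1 : y * (d ^ (m + 1))⁻¹ * y⁻¹ = d ^ (m + 1) := by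
    have h2 : y * d ^ (m + 1) * y⁻¹ = (d ^ (m + 1))⁻¹ := by rw [← conj_pow, hinv, inv_pow]
    have h3 := congrArg (fun a => a⁻¹) h2
    simp only [mul_inv_rev, inv_inv] at h3
    rw [← mul_assoc] at h3
    exact h3
  calc d ^ (m + 1) * y * (d ^ (m + 1))⁻¹ = d ^ (m + 1) * (y * (d ^ (m + 1))⁻¹ * y⁻¹) * y := by group
    _ = d ^ (m + 1 + (m + 1)) * y := by rw [h1, ← pow_add]
    _ = d * y := by
      have : m + 1 + (m + 1) = Nat.card N + 1 := by omega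
      rw [this, pow_succ, hdm, one_mul]
    _ = x := by rw [hd]; group

/-- A projection `N₀ → C` with odd kernel mapping the central involution `t` of `Y` to `z`. -/
structure Data {Y : Type u} [Group Y] {C : Type v} [Group C] (N₀ : Subgroup Y) (t : Y) (z : C) where
  /-- the projection -/
  f : N₀ →* C
  surj : Function.Surjective f
  odd : Odd (Nat.card f.ker)
  tmem : t ∈ N₀
  map_t : f ⟨t, tmem⟩ = z
  t_sq : t * t = 1
  t_comm : ∀ y, y * t = t * y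

variable {Y : Type u} [Group Y] {C : Type v} [Group C] {N₀ : Subgroup Y} {t : Y} {z : C} (D : Data N₀ t z)

open Classical in
/-- the projection as a total function -/
noncomputable def Data.φ (y : Y) : C := if h : y ∈ N₀ then D.f ⟨y, h⟩ else 1

theorem Data.φ_of_mem {y : Y} (h : y ∈ N₀) : D.φ y = D.f ⟨y, h⟩ := by
  rw [Data.φ, dif_pos h]

theorem Data.φ_mul {x y : Y} (hx : x ∈ N₀) (hy : y ∈ N₀) : D.φ (x * y) = D.φ x * D.φ y := by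
  rw [D.φ_of_mem hx, D.φ_of_mem hy, D.φ_of_mem (N₀.mul_mem hx hy), ← map_mul]
  rfl

theorem Data.φ_one : D.φ 1 = 1 := by
  rw [D.φ_of_mem N₀.one_mem]
  exact map_one D.f

theorem Data.φ_inv {x : Y} (hx : x ∈ N₀) : D.φ x⁻¹ = (D.φ x)⁻¹ := by
  rw [D.φ_of_mem hx, D.φ_of_mem (N₀.inv_mem hx), ← map_inv]
  rfl

theorem Data.φ_t : D.φ t = z := by rw [D.φ_of_mem D.tmem, D.map_t]

theorem Data.φ_conj {x y : Y} (hx : x ∈ N₀) (hy : y ∈ N₀) : D.φ (x * y * x⁻¹) = D.φ x * D.φ y * (D.φ x)⁻¹ := by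
  rw [D.φ_mul (N₀.mul_mem hx hy) (N₀.inv_mem hx), D.φ_mul hx hy, D.φ_inv hx]

theorem Data.φ_comm {x y : Y} (hx : x ∈ N₀) (hy : y ∈ N₀) :
    D.φ (x * y * x⁻¹ * y⁻¹) = D.φ x * D.φ y * (D.φ x)⁻¹ * (D.φ y)⁻¹ := by
  rw [D.φ_mul (N₀.mul_mem (N₀.mul_mem hx hy) (N₀.inv_mem hx)) (N₀.inv_mem hy), D.φ_conj hx hy, D.φ_inv hy]

theorem Data.φ_surj (c : C) : ∃ y ∈ N₀, D.φ y = c := by
  obtain ⟨y, rfl⟩ := D.surj c
  exact ⟨y, y.2, D.φ_of_mem y.2⟩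

include D in
theorem Data.t_inv : t⁻¹ = t := inv_eq_of_mul_eq_one_left D.t_sq

variable [Finite Y]

theorem Data.two_inj {y : Y} (hy : y ∈ N₀) {k : ℕ} (hk : y ^ 2 ^ k = 1) (h : D.φ y = 1) : y = 1 := by
  rw [D.φ_of_mem hy] at h
  have h1 : orderOf (⟨⟨y, hy⟩, h⟩ : D.f.ker) ∣ Nat.card D.f.ker := orderOf_dvd_natCard _
  have h2 : orderOf (⟨⟨y, hy⟩, h⟩ : D.f.ker) ∣ 2 ^ k :=
    orderOf_dvd_of_pow_eq_one (Subtype.ext (Subtype.ext hk))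
  have h3 : (2 ^ k).Coprime (Nat.card D.f.ker) := Nat.Coprime.pow_left k (Nat.coprime_two_left.2 D.odd)
  have h4 : orderOf (⟨⟨y, hy⟩, h⟩ : D.f.ker) = 1 := Nat.eq_one_of_dvd_coprimes h3 h2 h1
  exact congrArg (fun a => ((a : D.f.ker) : N₀).1) (orderOf_eq_one_iff.1 h4)

/-- Elements with the same central square and the same image are conjugate under a power of their quotient. -/
theorem Data.conj_lift {x y : Y} (hx : x ∈ N₀) (hy : y ∈ N₀) (hxy : x * x = y * y)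
    (hc : ∀ g, g * (y * y) = y * y * g) (h : D.φ x = D.φ y) :
    ∃ n : ℕ, (x * y⁻¹) ^ n * y * ((x * y⁻¹) ^ n)⁻¹ = x := by
  have hmem : x * y⁻¹ ∈ D.f.ker.map N₀.subtype := by
    refine ⟨⟨x * y⁻¹, N₀.mul_mem hx (N₀.inv_mem hy)⟩, ?_, rfl⟩
    change D.f _ = 1
    rw [← D.φ_of_mem, D.φ_mul hx (N₀.inv_mem hy), D.φ_inv hy, h, mul_inv_cancel]
  refine exists_conj_of_inv (N := D.f.ker.map N₀.subtype) ?_ hmem ?_
  · exact odd_card_map _ D.odd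
  · have h1 : x = y * y * x⁻¹ := by rw [← hxy]; group
    calc y * (x * y⁻¹) * y⁻¹ = y * (y * y * x⁻¹) * y⁻¹ * y⁻¹ := by rw [← h1]; group
      _ = (y * y * (y * x⁻¹)) * y⁻¹ * y⁻¹ := by group
      _ = (y * x⁻¹ * (y * y)) * y⁻¹ * y⁻¹ := by rw [hc]
      _ = (x * y⁻¹)⁻¹ := by group

/-- Lifting of conjugacy for elements with the same central square. -/
theorem Data.exists_conj {x y : Y} (hx : x ∈ N₀) (hy : y ∈ N₀) (hxy : x * x = y * y)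
    (hc : ∀ g, g * (y * y) = y * y * g) {c : C} (h : c * D.φ x * c⁻¹ = D.φ y) :
    ∃ m ∈ N₀, m * x * m⁻¹ = y ∧ D.φ m = c := by
  obtain ⟨m, hm, rfl⟩ := D.φ_surj c
  have h1 : m * x * m⁻¹ ∈ N₀ := N₀.mul_mem (N₀.mul_mem hm hx) (N₀.inv_mem hm)
  have hxx : m * x * m⁻¹ * (m * x * m⁻¹) = x * x := by
    calc m * x * m⁻¹ * (m * x * m⁻¹) = m * (x * x) * m⁻¹ := by group
      _ = x * x := by rw [hxy, hc]; group
  have himg : D.φ y = D.φ (m * x * m⁻¹) := by rw [D.φ_conj hm hx, h]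
  obtain ⟨n, hn⟩ := D.conj_lift hy h1 (by rw [hxx, hxy]) (by rw [hxx, hxy]; exact hc) himg
  obtain ⟨k, hk⟩ : ∃ k, k = (y * (m * x * m⁻¹)⁻¹) ^ n := ⟨_, rfl⟩
  rw [← hk] at hn
  have hkN : k ∈ N₀ := by rw [hk]; exact N₀.pow_mem (N₀.mul_mem hy (N₀.inv_mem h1)) _
  have hk1 : D.φ k = 1 := by
    have h2 : ∀ j : ℕ, D.φ ((y * (m * x * m⁻¹)⁻¹) ^ j) = 1 := by
      intro j
      induction j with
      | zero => rw [pow_zero, D.φ_one]
      | succ j ih =>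
        rw [pow_succ, D.φ_mul (N₀.pow_mem (N₀.mul_mem hy (N₀.inv_mem h1)) _) (N₀.mul_mem hy (N₀.inv_mem h1)), ih,
          D.φ_mul hy (N₀.inv_mem h1), D.φ_inv h1, himg, mul_inv_cancel, mul_one]
    rw [hk]; exact h2 n
  refine ⟨k * m, N₀.mul_mem hkN hm, ?_, ?_⟩
  · rw [← hn]; group
  · rw [D.φ_mul hkN hm, hk1, one_mul]

/-- Lifting centralising elements. -/
theorem Data.exists_comm {x : Y} (hx : x ∈ N₀) (hc : ∀ g, g * (x * x) = x * x * g) {c : C}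
    (h : c * D.φ x = D.φ x * c) : ∃ m ∈ N₀, m * x = x * m ∧ D.φ m = c := by
  obtain ⟨m, hm, h1, h2⟩ := D.exists_conj hx hx rfl hc (c := c) (by rw [h, mul_inv_cancel_right])
  exact ⟨m, hm, mul_inv_eq_iff_eq_mul.1 h1, h2⟩

end Cfsg.Agent.TwoGenNineE.Setup
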