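import Cfsg.Agent.NineCore.TwoNine

/-!
# The centraliser of a non-central involution of `2.A₉`

Concrete model: `B = (Fin 4 × Bool) ⊕ Fin 1`, the involution acts as `flip : (j, b) ↦ (j, !b)`.
-/

set_option autoImplicit false
set_option linter.unusedSectionVars false

namespace Cfsg.Agent.TwoGenNineE.Wreath

open Subgroup Equiv
open Cfsg.Agent.SporRec.TwoAn Cfsg.Agent.SporRec.TwoAnEleven

/-- Nine points: four pairs and one point. -/
abbrev B : Type := (Fin 4 × Bool) ⊕ Fin 1

/-- The element of the wreath product. -/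
def wr (τ : Perm (Fin 4)) (ε : Fin 4 → Bool) : Perm B where
  toFun := Sum.map (fun x => (τ x.1, xor x.2 (ε x.1))) id
  invFun := Sum.map (fun x => (τ.symm x.1, xor x.2 (ε (τ.symm x.1)))) id
  left_inv := by
    rintro (⟨j, b⟩ | k)
    · simp
    · simp
  right_inv := by
    rintro (⟨j, b⟩ | k)
    · simp
    · simp

theorem wr_inl (τ : Perm (Fin 4)) (ε : Fin 4 → Bool) (j : Fin 4) (b : Bool) :
    wr τ ε (Sum.inl (j, b)) = Sum.inl (τ j, xor b (ε j)) := rfl

theorem wr_inr (τ : Perm (Fin 4)) (ε : Fin 4 → Bool) (k : Fin 1) : wr τ ε (Sum.inr k) = Sum.inr k := rfl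

theorem wr_mul (τ τ' : Perm (Fin 4)) (ε ε' : Fin 4 → Bool) :
    wr τ ε * wr τ' ε' = wr (τ * τ') (fun j => xor (ε' j) (ε (τ' j))) := by
  ext x
  rcases x with ⟨j, b⟩ | k
  · rw [Perm.mul_apply, wr_inl, wr_inl, wr_inl, Perm.mul_apply, Bool.xor_assoc]
  · rfl

theorem wr_one : wr 1 (fun _ => false) = 1 := by
  ext x
  rcases x with ⟨j, b⟩ | k
  · rw [wr_inl]; simp
  · rfl

theorem wr_inj {τ τ' : Perm (Fin 4)} {ε ε' : Fin 4 → Bool} (h : wr τ ε = wr τ' ε') : τ = τ' ∧ ε = ε' := by
  have h1 : ∀ j, τ j = τ' j ∧ ε j = ε' j := by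
    intro j
    have h2 := congrArg (fun f : Perm B => f (Sum.inl (j, false))) h
    simp only [wr_inl, Sum.inl.injEq, Prod.mk.injEq, Bool.false_xor] at h2
    exact h2
  exact ⟨Equiv.ext fun j => (h1 j).1, funext fun j => (h1 j).2⟩

/-- The fixed point free involution on the pairs. -/
def flip : Perm B := wr 1 (fun _ => true)

theorem flip_inl (j : Fin 4) (b : Bool) : flip (Sum.inl (j, b)) = Sum.inl (j, !b) := by
  rw [flip, wr_inl]; simp

theorem flip_inr (k : Fin 1) : flip (Sum.inr k) = Sum.inr k := rfl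

theorem exists_wr {ρ : Perm B} (h : ρ * flip = flip * ρ) : ∃ τ ε, ρ = wr τ ε := by
  have hc : ∀ x, ρ (flip x) = flip (ρ x) := fun x => by
    rw [← Perm.mul_apply, ← Perm.mul_apply, h]
  have hr : ρ (Sum.inr 0) = Sum.inr 0 := by
    have h1 := hc (Sum.inr 0)
    rw [flip_inr] at h1
    rcases h2 : ρ (Sum.inr 0) with ⟨j, b⟩ | k
    · rw [h2, flip_inl] at h1
      simp at h1
    · rw [Subsingleton.elim k 0]
  have hl : ∀ j : Fin 4, ∃ k b, ρ (Sum.inl (j, false)) = Sum.inl (k, b) := by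
    intro j
    rcases h2 : ρ (Sum.inl (j, false)) with ⟨k, b⟩ | k
    · exact ⟨k, b, rfl⟩
    · rw [Subsingleton.elim k 0, ← hr] at h2
      exact absurd (ρ.injective h2) (by simp)
  choose τ ε hτ using hl
  have hτ' : ∀ j b, ρ (Sum.inl (j, b)) = Sum.inl (τ j, xor b (ε j)) := by
    intro j b
    cases b
    · rw [hτ]; simp
    · have h1 := hc (Sum.inl (j, false))
      rw [flip_inl, hτ, flip_inl] at h1
      simpa using h1
  have hinj : Function.Injective τ := by
    intro j k hjk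
    have h1 : ρ (Sum.inl (j, ε j)) = ρ (Sum.inl (k, ε k)) := by
      rw [hτ', hτ', hjk]; simp
    have h2 := ρ.injective h1
    simp only [Sum.inl.injEq, Prod.mk.injEq] at h2
    exact h2.1
  refine ⟨Equiv.ofBijective τ ((Finite.injective_iff_bijective).1 hinj), ε, ?_⟩
  ext x
  rcases x with ⟨j, b⟩ | k
  · rw [hτ', wr_inl]; rfl
  · rw [Subsingleton.elim k 0, hr, wr_inr]

/-! ### Signs -/

/-- Parity of the number of flips -/
def par (ε : Fin 4 → Bool) : Bool := xor (xor (ε 0) (ε 1)) (xor (ε 2) (ε 3))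

theorem sign_top (τ : Perm (Fin 4)) : Perm.sign (wr τ (fun _ => false)) = 1 := by
  revert τ
  decide

theorem sign_local (ε : Fin 4 → Bool) : Perm.sign (wr 1 ε) = if par ε then -1 else 1 := by
  revert ε
  decide

theorem wr_split (τ : Perm (Fin 4)) (ε : Fin 4 → Bool) : wr τ ε = wr τ (fun _ => false) * wr 1 ε := by
  rw [wr_mul]; simp

theorem sign_wr (τ : Perm (Fin 4)) (ε : Fin 4 → Bool) : Perm.sign (wr τ ε) = if par ε then -1 else 1 := by
  rw [wr_split, map_mul, sign_top, sign_local, one_mul]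

theorem mem_alt_wr {τ : Perm (Fin 4)} {ε : Fin 4 → Bool} : wr τ ε ∈ alternatingGroup B ↔ par ε = false := by
  rw [Perm.mem_alternatingGroup, sign_wr]
  cases par ε <;> decide

/-! ### Commutation with the lift of `flip` -/

section Lift

variable {C : Type*} [Group C] (K : Cover B C) {i : C}

include K in
theorem local_commute (hi : K.π i = flip) {g : C} {ε : Fin 4 → Bool} (hg : K.π g = wr 1 ε) : g * i = i * g := by
  have hdis : (K.π g).Disjoint (K.π (g⁻¹ * i)) := by
    have h1 : K.π (g⁻¹ * i) = wr 1 (fun j => !(ε j)) := by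
      rw [map_mul, map_inv, inv_mul_eq_iff_eq_mul, hi, hg, wr_mul, flip]
      congr 1
      funext j
      rw [Perm.one_apply]
      cases ε j <;> rfl
    rw [hg, h1]
    intro x
    rcases x with ⟨j, b⟩ | k
    · rw [wr_inl, wr_inl, Perm.one_apply]
      cases h : ε j
      · left; simp
      · right; simp
    · left; rfl
  have h2 := K.commute_of_disjoint hdis
  calc g * i = g * (g * (g⁻¹ * i)) := by group
    _ = g * ((g⁻¹ * i) * g) := by rw [h2]
    _ = i * g := by group

theorem wr_swap {j k : Fin 4} (h : j ≠ k) : wr (swap j k) (fun _ => false) =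
    swap (Sum.inl (j, false)) (Sum.inl (k, false)) * swap (Sum.inl (j, true)) (Sum.inl (k, true)) := by
  revert h k j
  decide

theorem flip_pair {j k : Fin 4} (h : j ≠ k) : wr 1 (fun l => l = j ∨ l = k) =
    swap (Sum.inl (j, false)) (Sum.inl (j, true)) * swap (Sum.inl (k, false)) (Sum.inl (k, true)) := by
  revert h k j
  decide

/-- Sign as an element of `C`. -/
def sg (τ : Perm (Fin 4)) : C := if Perm.sign τ = 1 then 1 else K.z

theorem sg_comm (τ : Perm (Fin 4)) (g : C) : sg K τ * g = g * sg K τ := by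
  unfold sg
  split_ifs
  · rw [one_mul, mul_one]
  · rw [K.z_comm]

theorem sg_mul (τ τ' : Perm (Fin 4)) : sg K (τ * τ') = sg K τ * sg K τ' := by
  unfold sg
  rw [map_mul]
  rcases Int.units_eq_one_or (Perm.sign τ) with h | h <;> rcases Int.units_eq_one_or (Perm.sign τ') with h' | h' <;>
    rw [h, h']
  · simp
  · simp
  · simp
  · rw [if_pos (by decide), if_neg (by decide), K.z_mul_z]

theorem swap_anticomm (hi : K.π i = flip) {j k : Fin 4} (h : j ≠ k) {g : C}
    (hg : K.π g = wr (swap j k) (fun _ => false)) : g * i = i * g * K.z := by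
  rw [wr_swap h] at hg
  have hmem : swap (Sum.inl (j, false) : B) (Sum.inl (j, true)) * swap (Sum.inl (k, false)) (Sum.inl (k, true)) ∈
      alternatingGroup B := Cover.swap_mul_swap_mem _ _ _ _ (by simp) (by simp)
  obtain ⟨u, hu⟩ := K.exists_lift hmem
  have hanti := K.anticomm (a := Sum.inl (j, false)) (b := Sum.inl (j, true)) (c := Sum.inl (k, false))
    (d := Sum.inl (k, true)) (by simp) (by simp [h]) (by simp) (by simp) (by simp [h]) (by simp) hu hg
  have hdis : (K.π g).Disjoint (K.π (u⁻¹ * i)) := by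
    have h1 : K.π (u⁻¹ * i) = wr 1 (fun l => !decide (l = j ∨ l = k)) := by
      rw [map_mul, map_inv, inv_mul_eq_iff_eq_mul, hi, hu, ← flip_pair h, wr_mul, flip]
      congr 1
      funext l
      rw [Perm.one_apply]
      cases decide (l = j ∨ l = k) <;> rfl
    rw [hg, ← wr_swap h, h1]
    intro x
    rcases x with ⟨l, b⟩ | l
    · rw [wr_inl, wr_inl, Perm.one_apply]
      by_cases hl : l = j ∨ l = k
      · right; simp [hl]
      · left
        push Not at hl
        rw [swap_apply_of_ne_of_ne hl.1 hl.2]; simp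
    · left; rfl
  have h2 := K.commute_of_disjoint hdis
  calc g * i = g * u * (u⁻¹ * i) := by group
    _ = u * g * (u⁻¹ * i) * K.z := by
        rw [hanti, mul_assoc (u * g), ← K.z_comm, ← mul_assoc]
    _ = u * (g * (u⁻¹ * i)) * K.z := by group
    _ = i * g * K.z := by rw [h2]; group

theorem top_comm (hi : K.π i = flip) (τ : Perm (Fin 4)) :
    ∀ g : C, K.π g = wr τ (fun _ => false) → g * i = i * g * sg K τ := by
  refine Perm.swap_induction_on τ ?_ ?_
  · intro g hg
    rw [local_commute K hi hg, sg, Perm.sign_one, if_pos rfl, mul_one]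
  · intro τ' j k hjk ih g hg
    have hmem : wr (swap j k) (fun _ => false) ∈ alternatingGroup B := mem_alt_wr.2 rfl
    obtain ⟨s, hs⟩ := K.exists_lift hmem
    have h1 : K.π (s⁻¹ * g) = wr τ' (fun _ => false) := by
      rw [map_mul, map_inv, inv_mul_eq_iff_eq_mul, hg, hs, wr_mul]
      rfl
    have h2 := ih _ h1
    have h3 := swap_anticomm K hi hjk hs
    have h4 : sg K (swap j k) = K.z := by
      rw [sg, Perm.sign_swap hjk, if_neg (by decide)]
    rw [sg_mul, h4]
    calc g * i = s * ((s⁻¹ * g) * i) := by group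
      _ = s * i * (s⁻¹ * g) * sg K τ' := by rw [h2]; group
      _ = i * s * K.z * (s⁻¹ * g) * sg K τ' := by rw [h3]
      _ = i * s * (s⁻¹ * g) * (K.z * sg K τ') := by
        rw [mul_assoc (i * s) K.z, ← K.z_comm]; group
      _ = i * g * (K.z * sg K τ') := by group

theorem wr_comm (hi : K.π i = flip) {g : C} {τ : Perm (Fin 4)} {ε : Fin 4 → Bool} (hg : K.π g = wr τ ε) :
    g * i = i * g * sg K τ := by
  obtain ⟨s, hs⟩ := K.exists_lift (σ := wr τ (fun _ => false)) (mem_alt_wr.2 rfl)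
  have h1 : K.π (s⁻¹ * g) = wr 1 ε := by
    rw [map_mul, map_inv, inv_mul_eq_iff_eq_mul, hg, hs, wr_split]
  have h2 := local_commute K hi h1
  have h3 := top_comm K hi τ s hs
  calc g * i = s * ((s⁻¹ * g) * i) := by group
    _ = s * i * (s⁻¹ * g) := by rw [h2]; group
    _ = i * s * (sg K τ * (s⁻¹ * g)) := by rw [h3]; group
    _ = i * g * sg K τ := by rw [sg_comm]; group

/-! ### The structure of the centraliser -/

/-- The elements of the four-group `⟨z, i⟩`. -/
def InV (z i g : C) : Prop := g = 1 ∨ g = z ∨ g = i ∨ g = i * z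

theorem support_flip : (flip : Perm B).support.card = 8 := by decide

theorem i_sq (hi : K.π i = flip) : i * i = 1 := by
  rw [K.sq_eq_one_iff, hi, support_flip]
  exact ⟨by decide, dvd_refl _⟩

theorem inV_iff (hi : K.π i = flip) {g : C} : InV K.z i g ↔ K.π g = 1 ∨ K.π g = flip := by
  constructor
  · rintro (h | h | h | h)
    · left; rw [h, map_one]
    · left; rw [h, K.π_z]
    · right; rw [h, hi]
    · right; rw [h, map_mul, hi, K.π_z, mul_one]
  · rintro (h | h)
    · rcases (K.ker _).1 h with h | h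
      · left; exact h
      · right; left; exact h
    · rcases K.lift_eq (h.trans hi.symm) with h | h
      · right; right; left; exact h
      · right; right; right; exact h

theorem exists_wr_of_comm (hi : K.π i = flip) {g : C} (h : g * i = i * g) :
    ∃ τ ε, K.π g = wr τ ε ∧ Perm.sign τ = 1 ∧ par ε = false := by
  have h1 : K.π g * flip = flip * K.π g := by rw [← hi, ← map_mul, h, map_mul]
  obtain ⟨τ, ε, hg⟩ := exists_wr h1
  refine ⟨τ, ε, hg, ?_, ?_⟩
  · have h2 := wr_comm K hi hg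
    rw [h] at h2
    by_contra h3
    rw [sg, if_neg h3] at h2
    exact K.z_ne (mul_eq_left.1 h2.symm)
  · rw [← mem_alt_wr (τ := τ), ← hg]
    exact K.mem_alternating g

theorem comm_of_wr (hi : K.π i = flip) {g : C} {τ : Perm (Fin 4)} {ε : Fin 4 → Bool} (hg : K.π g = wr τ ε)
    (hτ : Perm.sign τ = 1) : g * i = i * g := by
  rw [wr_comm K hi hg, sg, if_pos hτ, mul_one]

theorem fpf_of_sq : ∀ τ : Perm (Fin 4), Perm.sign τ = 1 → τ * τ = 1 → τ ≠ 1 → ∀ j, τ j ≠ j := by decide

theorem exists_pair : ∀ ε : Fin 4 → Bool, par ε = false → ε ≠ (fun _ => false) → ε ≠ (fun _ => true) →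
    ∃ j k, j ≠ k ∧ ε = fun l => decide (l = j ∨ l = k) := by decide

theorem support_fpf {τ : Perm (Fin 4)} (hτ : ∀ j, τ j ≠ j) (ε : Fin 4 → Bool) : (wr τ ε).support.card = 8 := by
  have h : (wr τ ε).support = (flip : Perm B).support := by
    ext x
    rw [Perm.mem_support, Perm.mem_support]
    rcases x with ⟨j, b⟩ | k
    · rw [wr_inl, flip_inl]
      simp [hτ j]
    · rw [wr_inr, flip_inr]
  rw [h, support_flip]

theorem local_sq {w : C} {ε : Fin 4 → Bool} (hw : K.π w = wr 1 ε) (hp : par ε = false) (h0 : ε ≠ (fun _ => false))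
    (h1 : ε ≠ (fun _ => true)) : w * w = K.z := by
  obtain ⟨j, k, hjk, rfl⟩ := exists_pair ε hp h0 h1
  rw [flip_pair hjk] at hw
  exact K.dbl _ _ _ _ (by simp) (by simp [hjk]) (by simp) (by simp) (by simp [hjk]) (by simp) w hw

theorem exists_local (hi : K.π i = flip) {w : C} (hw : w * w = K.z) (hc : w * i = i * w) :
    ∃ ε, K.π w = wr 1 ε ∧ par ε = false ∧ ε ≠ (fun _ => false) ∧ ε ≠ (fun _ => true) := by
  obtain ⟨τ, ε, hg, hτ, hε⟩ := exists_wr_of_comm K hi hc
  have h1 : wr (τ * τ) (fun j => xor (ε j) (ε (τ j))) = wr 1 (fun _ => false) := by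
    rw [← wr_mul, ← hg, ← map_mul, hw, K.π_z, wr_one]
  have h2 := (wr_inj h1).1
  by_cases h3 : τ = 1
  · subst h3
    refine ⟨ε, hg, hε, ?_, ?_⟩
    · rintro rfl
      rw [wr_one] at hg
      rcases (K.ker _).1 hg with h | h
      · rw [h, mul_one] at hw; exact K.z_ne hw.symm
      · rw [h, K.z_mul_z] at hw; exact K.z_ne hw.symm
    · rintro rfl
      have h4 : w * w = 1 := by
        rcases K.lift_eq (hg.trans hi.symm) with h | h
        · rw [h, i_sq K hi]
        · rw [h]
          calc i * K.z * (i * K.z) = i * (K.z * i) * K.z := by group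
            _ = i * i * (K.z * K.z) := by rw [← K.z_comm]; group
            _ = 1 := by rw [i_sq K hi, K.z_mul_z, one_mul]
      rw [h4] at hw
      exact K.z_ne hw.symm
  · exfalso
    have h4 : w * w = 1 := by
      rw [K.sq_eq_one_iff, hg, support_fpf (fpf_of_sq τ hτ h2 h3)]
      exact ⟨by rw [wr_mul, h1, wr_one], dvd_refl _⟩
    rw [h4] at hw
    exact K.z_ne hw.symm

theorem par_xor (ε ε' : Fin 4 → Bool) : par (fun j => xor (ε j) (ε' j)) = xor (par ε) (par ε') := by
  revert ε ε'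
  decide

/-- Products of two elements of square `z` in the centraliser. -/
theorem mul_closed (hi : K.π i = flip) {w w' : C} (hw : w * w = K.z) (hc : w * i = i * w) (hw' : w' * w' = K.z)
    (hc' : w' * i = i * w') : w * w' * (w * w') = K.z ∨ InV K.z i (w * w') := by
  obtain ⟨ε, h1, h2, h3, h4⟩ := exists_local K hi hw hc
  obtain ⟨ε', h1', h2', h3', h4'⟩ := exists_local K hi hw' hc'
  have h5 : K.π (w * w') = wr 1 (fun j => xor (ε' j) (ε j)) := by
    rw [map_mul, h1, h1', wr_mul]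
    simp
  rw [inV_iff K hi]
  by_cases h6 : (fun j => xor (ε' j) (ε j)) = (fun _ => false)
  · right; left; rw [h5, h6, wr_one]
  by_cases h7 : (fun j => xor (ε' j) (ε j)) = (fun _ => true)
  · right; right; rw [h5, h7]; rfl
  left
  exact local_sq K h5 (by rw [par_xor, h2, h2']; rfl) h6 h7

theorem exists_top_aux : ∀ j k j' k' : Fin 4, j ≠ k → j' ≠ k' →
    ∃ τ : Perm (Fin 4), Perm.sign τ = 1 ∧ τ j = j' ∧ τ k = k' := by decide

theorem exists_top (ε ε' : Fin 4 → Bool) (h2 : par ε = false) (h3 : ε ≠ (fun _ => false)) (h4 : ε ≠ (fun _ => true))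
    (h2' : par ε' = false) (h3' : ε' ≠ (fun _ => false)) (h4' : ε' ≠ (fun _ => true)) :
    ∃ τ : Perm (Fin 4), Perm.sign τ = 1 ∧ ∀ j, ε' (τ j) = ε j := by
  obtain ⟨j, k, hjk, rfl⟩ := exists_pair ε h2 h3 h4
  obtain ⟨j', k', hjk', rfl⟩ := exists_pair ε' h2' h3' h4'
  obtain ⟨τ, hτ, hj, hk⟩ := exists_top_aux j k j' k' hjk hjk'
  refine ⟨τ, hτ, fun l => ?_⟩
  rw [← hj, ← hk]
  simp

theorem exists_other : ∀ ε : Fin 4 → Bool, par ε = false → ε ≠ (fun _ => false) → ε ≠ (fun _ => true) →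
    ∃ ε' : Fin 4 → Bool, par ε' = false ∧ ε' ≠ (fun _ => false) ∧ ε' ≠ (fun _ => true) ∧
      (fun j => xor (ε' j) (ε j)) ≠ (fun _ => false) ∧ (fun j => xor (ε' j) (ε j)) ≠ (fun _ => true) := by decide

theorem anti_of_sq {a b : C} (ha : a * a = K.z) (hb : b * b = K.z) (hab : a * b * (a * b) = K.z) :
    a * b * a⁻¹ = b * K.z := by
  have e3 : a⁻¹ = a * K.z := by
    rw [inv_eq_iff_mul_eq_one, ← mul_assoc, ha, K.z_mul_z]
  have e4 : b⁻¹ = b * K.z := by
    rw [inv_eq_iff_mul_eq_one, ← mul_assoc, hb, K.z_mul_z]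
  calc a * b * a⁻¹ = a * b * (a * K.z) := by rw [e3]
    _ = a * b * (a * b) * b⁻¹ * K.z := by group
    _ = b * K.z := by
      rw [hab, e4, ← K.z_comm, mul_assoc, mul_assoc, K.z_mul_z, mul_one]

/-- The centraliser of `i` is transitive on its elements of square `z`. -/
theorem transitive (hi : K.π i = flip) {w w' : C} (hw : w * w = K.z) (hc : w * i = i * w) (hw' : w' * w' = K.z)
    (hc' : w' * i = i * w') : ∃ m, m * i = i * m ∧ m * w * m⁻¹ = w' := by
  obtain ⟨ε, h1, h2, h3, h4⟩ := exists_local K hi hw hc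
  obtain ⟨ε', h1', h2', h3', h4'⟩ := exists_local K hi hw' hc'
  obtain ⟨τ, hτ, hτε⟩ := exists_top ε ε' h2 h3 h4 h2' h3' h4'
  obtain ⟨m, hm⟩ := K.exists_lift (σ := wr τ (fun _ => false)) (mem_alt_wr.2 rfl)
  have hmi : m * i = i * m := comm_of_wr K hi hm hτ
  have h5 : K.π (m * w * m⁻¹) = K.π w' := by
    rw [map_mul, map_mul, map_inv, mul_inv_eq_iff_eq_mul, hm, h1, h1', wr_mul, wr_mul]
    congr 1
    funext j
    simp [hτε]
  rcases K.lift_eq h5 with h6 | h6
  · exact ⟨m, hmi, h6⟩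
  · obtain ⟨ε'', g1, g2, g3, g4, g5⟩ := exists_other ε' h2' h3' h4'
    obtain ⟨n, hn⟩ := K.exists_lift (σ := wr 1 ε'') (mem_alt_wr.2 g1)
    have hni : n * i = i * n := local_commute K hi hn
    have hn2 : n * n = K.z := local_sq K hn g1 g2 g3
    have hnw : n * w' * (n * w') = K.z := by
      have e : K.π (n * w') = wr 1 (fun j => xor (ε' j) (ε'' j)) := by
        rw [map_mul, hn, h1', wr_mul]; simp
      refine local_sq K e (by rw [par_xor, g1, h2']; rfl) ?_ ?_
      · intro h; apply g4; rw [← h]; funext j; exact Bool.xor_comm _ _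
      · intro h; apply g5; rw [← h]; funext j; exact Bool.xor_comm _ _
    refine ⟨n * m, ?_, ?_⟩
    · rw [mul_assoc, hmi, ← mul_assoc, hni, mul_assoc]
    · calc n * m * w * (n * m)⁻¹ = n * (m * w * m⁻¹) * n⁻¹ := by group
        _ = n * w' * n⁻¹ * K.z := by
          rw [h6, ← mul_assoc, mul_assoc _ K.z, ← K.z_comm]; group
        _ = w' := by
          rw [anti_of_sq K hn2 hw' hnw, mul_assoc, K.z_mul_z, mul_one]

theorem exists_wr_pow (τ : Perm (Fin 4)) (ε : Fin 4 → Bool) (n : ℕ) : ∃ ε', wr τ ε ^ n = wr (τ ^ n) ε' := by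
  induction n with
  | zero => exact ⟨fun _ => false, by rw [pow_zero, pow_zero, wr_one]⟩
  | succ n ih =>
    obtain ⟨ε', h⟩ := ih
    exact ⟨_, by rw [pow_succ, h, wr_mul, pow_succ]⟩

theorem three_or_two : ∀ τ : Perm (Fin 4), Perm.sign τ = 1 → τ ^ 3 = 1 ∨ τ * τ = 1 := by decide

theorem top_sq {g : C} {τ : Perm (Fin 4)} {ε : Fin 4 → Bool} (hg : K.π g = wr τ ε) (hτ : Perm.sign τ = 1) {k : ℕ}
    (h : g ^ 2 ^ k = 1) : τ * τ = 1 := by
  rcases three_or_two τ hτ with h3 | h3
  · obtain ⟨ε', h4⟩ := exists_wr_pow τ ε (2 ^ k)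
    rw [← hg, ← map_pow, h, map_one, ← wr_one] at h4
    have h5 := (wr_inj h4).1
    have h6 : orderOf τ ∣ 3 := orderOf_dvd_of_pow_eq_one h3
    have h7 : orderOf τ ∣ 2 ^ k := orderOf_dvd_of_pow_eq_one h5.symm
    have h8 : (2 ^ k).Coprime 3 := Nat.Coprime.pow_left k (by norm_num)
    have h9 : τ = 1 := orderOf_eq_one_iff.1 (Nat.eq_one_of_dvd_coprimes h8 h7 h6)
    rw [h9, mul_one]
  · exact h3

theorem const_aux : ∀ (τ : Perm (Fin 4)), Perm.sign τ = 1 → τ * τ = 1 → ∀ ε : Fin 4 → Bool, par ε = false →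
    (fun j => xor (ε j) (ε (τ j))) = (fun _ => false) ∨ (fun j => xor (ε j) (ε (τ j))) = (fun _ => true) := by
  decide

theorem comm_aux : ∀ τ τ' : Perm (Fin 4), Perm.sign τ = 1 → τ * τ = 1 → Perm.sign τ' = 1 → τ' * τ' = 1 →
    τ * τ' = τ' * τ := by decide

theorem comm_aux₂ : ∀ τ τ' : Perm (Fin 4), (Perm.sign τ = 1 ∧ τ * τ = 1 ∧ τ ≠ 1 ∧ Perm.sign τ' = 1 ∧
    τ * τ' = τ' * τ) → τ' * τ' = 1 := by decide

theorem comm_aux' (τ τ' : Perm (Fin 4)) (h1 : Perm.sign τ = 1) (h2 : τ * τ = 1) (h3 : τ ≠ 1)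
    (h4 : Perm.sign τ' = 1) (h5 : τ * τ' = τ' * τ) : τ' * τ' = 1 := comm_aux₂ τ τ' ⟨h1, h2, h3, h4, h5⟩

theorem comm_wr {τ τ' : Perm (Fin 4)} {ε ε' : Fin 4 → Bool} (h1 : Perm.sign τ = 1) (h2 : τ * τ = 1)
    (hε : par ε = false) (h1' : Perm.sign τ' = 1) (h2' : τ' * τ' = 1) (hε' : par ε' = false) :
    wr τ ε * wr τ' ε' = wr τ' ε' * wr τ ε ∨ wr τ ε * wr τ' ε' = flip * (wr τ' ε' * wr τ ε) := by
  rw [wr_mul, wr_mul, flip, wr_mul, one_mul, comm_aux τ τ' h1 h2 h1' h2']
  have a := const_aux τ' h1' h2' ε hε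
  have a' := const_aux τ h1 h2 ε' hε'
  rcases a with a | a <;> rcases a' with a' | a'
  · left
    congr 1; funext j
    have b := congrFun a j
    have b' := congrFun a' j
    revert b b'
    generalize ε j = x; generalize ε (τ' j) = y; generalize ε' j = x'; generalize ε' (τ j) = y'
    revert x y x' y'; decide
  · right
    congr 1; funext j
    have b := congrFun a j
    have b' := congrFun a' j
    revert b b'
    generalize ε j = x; generalize ε (τ' j) = y; generalize ε' j = x'; generalize ε' (τ j) = y'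
    revert x y x' y'; decide
  · right
    congr 1; funext j
    have b := congrFun a j
    have b' := congrFun a' j
    revert b b'
    generalize ε j = x; generalize ε (τ' j) = y; generalize ε' j = x'; generalize ε' (τ j) = y'
    revert x y x' y'; decide
  · left
    congr 1; funext j
    have b := congrFun a j
    have b' := congrFun a' j
    revert b b'
    generalize ε j = x; generalize ε (τ' j) = y; generalize ε' j = x'; generalize ε' (τ j) = y'
    revert x y x' y'; decide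

theorem inV_comm_of_top (hi : K.π i = flip) {g h : C} {τ τ' : Perm (Fin 4)} {ε ε' : Fin 4 → Bool}
    (hg : K.π g = wr τ ε) (h1 : Perm.sign τ = 1) (h2 : τ * τ = 1) (hε : par ε = false)
    (hh : K.π h = wr τ' ε') (h1' : Perm.sign τ' = 1) (h2' : τ' * τ' = 1) (hε' : par ε' = false) :
    InV K.z i (g * h * g⁻¹ * h⁻¹) := by
  rw [inV_iff K hi, map_mul, map_mul, map_mul, map_inv, map_inv, hg, hh]
  rcases comm_wr h1 h2 hε h1' h2' hε' with h | h
  · left; rw [h]; group
  · right; rw [h]; group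

/-- Two-elements of the centraliser commute modulo the four-group. -/
theorem inV_comm (hi : K.π i = flip) {g h : C} (hg : g * i = i * g) {k : ℕ} (hgk : g ^ 2 ^ k = 1)
    (hh : h * i = i * h) {l : ℕ} (hhl : h ^ 2 ^ l = 1) : InV K.z i (g * h * g⁻¹ * h⁻¹) := by
  obtain ⟨τ, ε, h1, h2, h3⟩ := exists_wr_of_comm K hi hg
  obtain ⟨τ', ε', h1', h2', h3'⟩ := exists_wr_of_comm K hi hh
  exact inV_comm_of_top K hi h1 h2 (top_sq K h1 h2 hgk) h3 h1' h2' (top_sq K h1' h2' hhl) h3'

/-- Elements centralising a 'moving' two-element modulo the four-group centralise all two-elements modulo the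
four-group. -/
theorem inV_comm' (hi : K.π i = flip) {c g s : C} (hc : c * i = i * c) {k : ℕ} (hck : c ^ 2 ^ k = 1)
    (hc1 : c * c ≠ K.z) (hc2 : ¬ InV K.z i c) (hg : g * i = i * g) (hgc : InV K.z i (g * c * g⁻¹ * c⁻¹))
    (hs : s * i = i * s) {l : ℕ} (hsl : s ^ 2 ^ l = 1) : InV K.z i (g * s * g⁻¹ * s⁻¹) := by
  obtain ⟨τ, ε, h1, h2, h3⟩ := exists_wr_of_comm K hi hc
  obtain ⟨τ', ε', h1', h2', h3'⟩ := exists_wr_of_comm K hi hg
  obtain ⟨τ'', ε'', h1'', h2'', h3''⟩ := exists_wr_of_comm K hi hs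
  have hτ : τ ≠ 1 := by
    rintro rfl
    by_cases e1 : ε = fun _ => false
    · apply hc2; rw [inV_iff K hi]; left; rw [h1, e1, wr_one]
    by_cases e2 : ε = fun _ => true
    · apply hc2; rw [inV_iff K hi]; right; rw [h1, e2]; rfl
    exact hc1 (local_sq K h1 h3 e1 e2)
  have hcomm : τ * τ' = τ' * τ := by
    rw [inV_iff K hi, map_mul, map_mul, map_mul, map_inv, map_inv, mul_inv_eq_iff_eq_mul, mul_inv_eq_iff_eq_mul,
      mul_inv_eq_iff_eq_mul, mul_inv_eq_iff_eq_mul, h1, h1', one_mul, flip, wr_mul, wr_mul, wr_mul, wr_mul] at hgc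
    rcases hgc with h | h
    · exact (wr_inj h).1.symm
    · have := (wr_inj h).1
      rw [one_mul] at this
      exact this.symm
  exact inV_comm_of_top K hi h1' h2' (comm_aux' τ τ' h2 (top_sq K h1 h2 hck) hτ h2' hcomm) h3' h1'' h2''
    (top_sq K h1'' h2'' hsl) h3''

/-- A 'moving' involution. -/
theorem exists_moving (hi : K.π i = flip) : ∃ c, c * i = i * c ∧ c * c = 1 ∧ ¬ InV K.z i c := by
  obtain ⟨τ, h1, h2, h3⟩ : ∃ τ : Perm (Fin 4), Perm.sign τ = 1 ∧ τ * τ = 1 ∧ τ ≠ 1 :=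
    ⟨swap 0 1 * swap 2 3, by decide, by decide, by decide⟩
  obtain ⟨c, hc⟩ := K.exists_lift (σ := wr τ (fun _ => false)) (mem_alt_wr.2 rfl)
  refine ⟨c, comm_of_wr K hi hc h1, ?_, ?_⟩
  · rw [K.sq_eq_one_iff, hc, support_fpf (fpf_of_sq τ h1 h2 h3)]
    refine ⟨?_, dvd_refl _⟩
    rw [wr_mul, h2, ← wr_one]
    rfl
  · rw [inV_iff K hi, hc, ← wr_one, flip]
    rintro (h | h)
    · exact h3 (wr_inj h).1
    · exact h3 (wr_inj h).1

/-- Two elements of square `z` whose product has square `z`. -/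
theorem exists_two (hi : K.π i = flip) : ∃ w w', w * i = i * w ∧ w * w = K.z ∧ w' * i = i * w' ∧ w' * w' = K.z ∧
    w * w' * (w * w') = K.z := by
  obtain ⟨w, hw⟩ := K.exists_lift (σ := wr 1 ![true, true, false, false]) (mem_alt_wr.2 (by decide))
  obtain ⟨w', hw'⟩ := K.exists_lift (σ := wr 1 ![true, false, true, false]) (mem_alt_wr.2 (by decide))
  refine ⟨w, w', local_commute K hi hw, local_sq K hw (by decide) (by decide) (by decide), local_commute K hi hw',
    local_sq K hw' (by decide) (by decide) (by decide), ?_⟩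
  have h : K.π (w * w') = wr 1 ![false, true, true, false] := by
    rw [map_mul, hw, hw', wr_mul]
    congr 1
    decide
  exact local_sq K h (by decide) (by decide) (by decide)

end Lift

end Cfsg.Agent.TwoGenNineE.Wreath
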